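import Groth.Agent.EtDual.K855.NatCmp
import Groth.Agent.Etcore.AbHomology
import Groth.Agent.EtDesc.K224.Sec

/-!
# The presheaf complex of an injective resolution on a big site computes étale cohomology, naturally

`psh J` is the complex of presheaves on `Over Y` underlying an injective resolution `J` of `a⁻¹ F`.
* `hcmp`: `H^n (J(V)) ≃+ H^n(V, F|_V)`;
* `hcmp_res`: compatible with `hpVia`;
* `isZero_homology_neg`: the groups in negative degrees vanish.
-/

set_option autoImplicit false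
universe u
open CategoryTheory CategoryTheory.Limits AlgebraicGeometry Opposite Abelian ComplexShape
open scoped Groth.Agent.Etcore.EtInst

noncomputable section

namespace K855.HomCmp

open Groth.Agent.Etrest Groth.Agent.Etrest.BigEtSite K343.Basic K343.Res
open Groth.Agent.Etcore.HpullCalc Groth.Agent.Etcore.EtInst Groth.Agent.Etcore.AbHomology
open K855.NatCmp

attribute [local instance] isGrothendieckAbelian_AbK

variable {K : GrothendieckTopology Scheme.{u}} {Y : Scheme.{u}}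

/-- The complex of presheaves underlying a resolution. -/
abbrev psh {G : AbK K Y} (J : InjectiveResolution G) : CochainComplex ((Over Y)ᵒᵖ ⥤ AddCommGrpCat.{u + 1}) ℤ :=
  ((sheafToPresheaf (K.over Y) AddCommGrpCat.{u + 1}).mapHomologicalComplex (up ℤ)).obj J.cochainComplex

/-- Evaluation of a complex of presheaves. -/
abbrev evA (V : Over Y) : CochainComplex ((Over Y)ᵒᵖ ⥤ AddCommGrpCat.{u + 1}) ℤ ⥤ CochainComplex AddCommGrpCat.{u + 1} ℤ :=
  ((evaluation (Over Y)ᵒᵖ AddCommGrpCat.{u + 1}).obj (op V)).mapHomologicalComplex (up ℤ)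

/-- Restriction maps. -/
abbrev evM (A : CochainComplex ((Over Y)ᵒᵖ ⥤ AddCommGrpCat.{u + 1}) ℤ) {V V' : Over Y} (f : V' ⟶ V) :
    (evA V).obj A ⟶ (evA V').obj A :=
  (NatTrans.mapHomologicalComplex ((evaluation (Over Y)ᵒᵖ AddCommGrpCat.{u + 1}).map f.op) (up ℤ)).app A

theorem isZero_psh {G : AbK K Y} (J : InjectiveResolution G) (i : ℤ) (hi : i < 0) : IsZero ((psh J).X i) :=
  (sheafToPresheaf (K.over Y) AddCommGrpCat.{u + 1}).map_isZero
    (HomologicalComplex.isZero_extend_X _ embeddingUpNat i (fun j => by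
      change (j : ℤ) ≠ i
      lia))

theorem isZero_evA {G : AbK K Y} (J : InjectiveResolution G) (V : Over Y) (i : ℤ) (hi : i < 0) :
    IsZero (((evA V).obj (psh J)).X i) :=
  ((evaluation (Over Y)ᵒᵖ AddCommGrpCat.{u + 1}).obj (op V)).map_isZero (isZero_psh J i hi)

theorem isZero_homology_neg {G : AbK K Y} (J : InjectiveResolution G) (V : Over Y) (i : ℤ) (hi : i < 0) :
    IsZero (((evA V).obj (psh J)).homology i) := by
  have h := ShortComplex.isZero_homology_of_isZero_X₂ (((evA V).obj (psh J)).sc i) (isZero_evA J V i hi)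
  exact h

/-- `J^n(V)` in the two indexings. -/
def xI {G : AbK K Y} (J : InjectiveResolution G) (V : Over Y) (n : ℕ) :
    ((evA V).obj (psh J)).X (n : ℤ) ≅ (J.cocomplex.X n).obj.obj (op (Over.mk V.hom)) :=
  (sheafToPresheaf (K.over Y) AddCommGrpCat.{u + 1} ⋙ (evaluation (Over Y)ᵒᵖ AddCommGrpCat.{u + 1}).obj (op V)).mapIso
    (J.cocomplex.extendXIso embeddingUpNat (i := n) rfl)

theorem map_sq {C D : Type*} [Category* C] [Category* D] (Φ : C ⥤ D) {X X' Z Z' : C} (a : X ⟶ X') (e₁ : X ≅ Z)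
    (e₂ : X' ≅ Z') (d : Z ⟶ Z') (h : a = e₁.hom ≫ d ≫ e₂.inv) :
    Φ.map a ≫ (Φ.mapIso e₂).hom = (Φ.mapIso e₁).hom ≫ Φ.map d := by
  rw [Functor.mapIso_hom, Functor.mapIso_hom, ← Φ.map_comp, ← Φ.map_comp, h, Category.assoc, Category.assoc,
    Iso.inv_hom_id, Category.comp_id]

theorem xI_d {G : AbK K Y} (J : InjectiveResolution G) (V : Over Y) (n : ℕ) :
    ((evA V).obj (psh J)).d (n : ℤ) ((n + 1 : ℕ) : ℤ) ≫ (xI J V (n + 1)).hom =
      (xI J V n).hom ≫ (J.cocomplex.d n (n + 1)).hom.app (op (Over.mk V.hom)) :=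
  map_sq (sheafToPresheaf (K.over Y) AddCommGrpCat.{u + 1} ⋙
    (evaluation (Over Y)ᵒᵖ AddCommGrpCat.{u + 1}).obj (op V)) (J.cochainComplex.d (n : ℤ) ((n + 1 : ℕ) : ℤ))
    (J.cocomplex.extendXIso embeddingUpNat (i := n) (i' := (n : ℤ)) rfl)
    (J.cocomplex.extendXIso embeddingUpNat (i := n + 1) (i' := ((n + 1 : ℕ) : ℤ)) rfl) (J.cocomplex.d n (n + 1))
    (J.cocomplex.extend_d_eq embeddingUpNat (i := n) (j := n + 1) (i' := (n : ℤ))
      (j' := ((n + 1 : ℕ) : ℤ)) rfl rfl)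

theorem xI_d_apply {G : AbK K Y} (J : InjectiveResolution G) (V : Over Y) (n : ℕ)
    (x : ((evA V).obj (psh J)).X (n : ℤ)) :
    (xI J V (n + 1)).hom (((evA V).obj (psh J)).d (n : ℤ) ((n + 1 : ℕ) : ℤ) x) =
      (J.cocomplex.d n (n + 1)).hom.app (op (Over.mk V.hom)) ((xI J V n).hom x) :=
  ConcreteCategory.congr_hom (xI_d J V n) x

theorem xI_res {G : AbK K Y} (J : InjectiveResolution G) {V V' : Over Y} (f : V' ⟶ V) (n : ℕ)
    (x : ((evA V).obj (psh J)).X (n : ℤ)) :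
    (xI J V' n).hom ((evM (psh J) f).f (n : ℤ) x) =
      (J.cocomplex.X n).obj.map (Over.homMk f.left (Over.w f) : Over.mk V'.hom ⟶ Over.mk V.hom).op
        ((xI J V n).hom x) :=
  ConcreteCategory.congr_hom ((J.cocomplex.extendXIso embeddingUpNat (i := n) (i' := (n : ℤ)) rfl).hom.hom.naturality
    f.op) x

variable [Good K] [ContK K Y] {F : EtCoh.Ab Y} (J : InjectiveResolution ((aPullK K Y).obj F))
  (hv : ∀ (V : Over Y) (q : ℕ), 0 < q → IsZero (((uResK K V.hom).rightDerived q).obj ((aPullK K Y).obj F)))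

omit [Good K] in
theorem hz_aux (V : Over Y) (n : ℕ) (x : ((evA V).obj (psh J)).X (n : ℤ))
    (hx : ((evA V).obj (psh J)).d (n : ℤ) ((n + 1 : ℕ) : ℤ) x = 0) : dc V.hom J n ((xI J V n).hom x) = 0 := by
  have h := xI_d_apply J V n x
  rw [hx, map_zero] at h
  exact h.symm

/-- The class of a cocycle. -/
def clI (V : Over Y) (n : ℕ) (x : ((evA V).obj (psh J)).X (n : ℤ))
    (hx : ((evA V).obj (psh J)).d (n : ℤ) ((n + 1 : ℕ) : ℤ) x = 0) :
    HH V.left ((EtCoh.pull V.hom).obj F) n := cl V.hom J (hv V) n ((xI J V n).hom x) (hz_aux J V n x hx)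

theorem clI_surjective (V : Over Y) (n : ℕ) (ξ : HH V.left ((EtCoh.pull V.hom).obj F) n) :
    ∃ x hx, clI J hv V n x hx = ξ := by
  obtain ⟨z, hz, rfl⟩ := cl_surjective V.hom J (hv V) n ξ
  have h0 : (xI J V n).hom ((xI J V n).inv z) = z := ConcreteCategory.congr_hom (xI J V n).inv_hom_id z
  refine ⟨(xI J V n).inv z, ?_, ?_⟩
  · apply (AddCommGrpCat.mono_iff_injective (xI J V (n + 1)).hom).1 inferInstance
    rw [xI_d_apply, h0, map_zero]
    exact hz
  · exact cl_congr V.hom J (hv V) n h0 _ _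

theorem clI_eq_zero_iff_succ (V : Over Y) (n : ℕ) (x : ((evA V).obj (psh J)).X ((n + 1 : ℕ) : ℤ))
    (hx : ((evA V).obj (psh J)).d ((n + 1 : ℕ) : ℤ) ((n + 1 + 1 : ℕ) : ℤ) x = 0) :
    clI J hv V (n + 1) x hx = 0 ↔
      ∃ y : ((evA V).obj (psh J)).X (n : ℤ), ((evA V).obj (psh J)).d (n : ℤ) ((n + 1 : ℕ) : ℤ) y = x := by
  rw [clI, cl_eq_zero_iff_succ]
  constructor
  · rintro ⟨y, hy⟩
    refine ⟨(xI J V n).inv y, ?_⟩
    apply (AddCommGrpCat.mono_iff_injective (xI J V (n + 1)).hom).1 inferInstance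
    have h0 : (xI J V n).hom ((xI J V n).inv y) = y := ConcreteCategory.congr_hom (xI J V n).inv_hom_id y
    rw [xI_d_apply, h0]
    exact hy
  · rintro ⟨y, rfl⟩
    exact ⟨(xI J V n).hom y, (xI_d_apply J V n y).symm⟩

theorem clI_eq_zero_iff_zero (V : Over Y) (x : ((evA V).obj (psh J)).X ((0 : ℕ) : ℤ))
    (hx : ((evA V).obj (psh J)).d ((0 : ℕ) : ℤ) ((0 + 1 : ℕ) : ℤ) x = 0) :
    clI J hv V 0 x hx = 0 ↔
      ∃ y : ((evA V).obj (psh J)).X (-1), ((evA V).obj (psh J)).d (-1) ((0 : ℕ) : ℤ) y = x := by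
  rw [clI, cl_eq_zero_iff_zero]
  have hd : ((evA V).obj (psh J)).d (-1) ((0 : ℕ) : ℤ) = 0 := (isZero_evA J V (-1) (by lia)).eq_of_src _ _
  constructor
  · intro h
    refine ⟨0, ?_⟩
    apply (AddCommGrpCat.mono_iff_injective (xI J V 0).hom).1 inferInstance
    rw [h, map_zero, map_zero]
  · rintro ⟨y, rfl⟩
    rw [hd]
    exact map_zero (xI J V 0).hom.hom

theorem exists_hcmp (V : Over Y) (n : ℕ) :
    ∃ e : ((evA V).obj (psh J)).homology (n : ℤ) ≃+ HH V.left ((EtCoh.pull V.hom).obj F) n,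
      ∀ z : ((evA V).obj (psh J)).cycles (n : ℤ), e (((evA V).obj (psh J)).homologyπ (n : ℤ) z) =
        clI J hv V n (((evA V).obj (psh J)).iCycles (n : ℤ) z) (d_iCycles _ _ z) := by
  have hadd : ∀ (x y : ((evA V).obj (psh J)).X (n : ℤ)) (hx : ((evA V).obj (psh J)).d (n : ℤ) ((n + 1 : ℕ) : ℤ) x = 0)
      (hy : ((evA V).obj (psh J)).d (n : ℤ) ((n + 1 : ℕ) : ℤ) y = 0)
      (hxy : ((evA V).obj (psh J)).d (n : ℤ) ((n + 1 : ℕ) : ℤ) (x + y) = 0),
      clI J hv V n (x + y) hxy = clI J hv V n x hx + clI J hv V n y hy := by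
    intro x y hx hy hxy
    rw [clI, clI, clI, ← cl_add]
    · exact cl_congr V.hom J (hv V) n (map_add _ _ _) _ _
    · rw [← map_add]
      exact hz_aux J V n _ hxy
  cases n with
  | zero =>
    exact exists_equiv (by simp) (by simp) (clI J hv V 0) hadd (clI_surjective J hv V 0)
      (clI_eq_zero_iff_zero J hv V)
  | succ n =>
    exact exists_equiv (by simp) (by simp) (clI J hv V (n + 1)) hadd (clI_surjective J hv V (n + 1))
      (clI_eq_zero_iff_succ J hv V n)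

/-- **The comparison** `H^n (J(V)) ≃+ H^n(V, F|_V)`. -/
def hcmp (V : Over Y) (n : ℕ) :
    ((evA V).obj (psh J)).homology (n : ℤ) ≃+ HH V.left ((EtCoh.pull V.hom).obj F) n :=
  (exists_hcmp J hv V n).choose

theorem hcmp_π (V : Over Y) (n : ℕ) (z : ((evA V).obj (psh J)).cycles (n : ℤ)) :
    hcmp J hv V n (((evA V).obj (psh J)).homologyπ (n : ℤ) z) =
      clI J hv V n (((evA V).obj (psh J)).iCycles (n : ℤ) z) (d_iCycles _ _ z) :=
  (exists_hcmp J hv V n).choose_spec z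

/-- **The comparison is natural.** -/
theorem hcmp_res {V V' : Over Y} (f : V' ⟶ V) [PreservesFiniteLimits (EtCoh.pull f.left)] (n : ℕ)
    (ξ : ((evA V).obj (psh J)).homology (n : ℤ)) :
    hpVia f.left V.hom V'.hom (Over.w f) F n (hcmp J hv V n ξ) =
      hcmp J hv V' n (HomologicalComplex.homologyMap (evM (psh J) f) (n : ℤ) ξ) := by
  obtain ⟨z, rfl⟩ := homologyπ_surj _ ξ
  have h1 : HomologicalComplex.homologyMap (evM (psh J) f) (n : ℤ) (((evA V).obj (psh J)).homologyπ (n : ℤ) z) =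
      ((evA V').obj (psh J)).homologyπ (n : ℤ) (HomologicalComplex.cyclesMap (evM (psh J) f) (n : ℤ) z) :=
    ConcreteCategory.congr_hom (HomologicalComplex.homologyπ_naturality (evM (psh J) f) (n : ℤ)) z
  have h2 : ((evA V').obj (psh J)).iCycles (n : ℤ) (HomologicalComplex.cyclesMap (evM (psh J) f) (n : ℤ) z) =
      (evM (psh J) f).f (n : ℤ) (((evA V).obj (psh J)).iCycles (n : ℤ) z) :=
    ConcreteCategory.congr_hom (HomologicalComplex.cyclesMap_i (evM (psh J) f) (n : ℤ)) z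
  rw [h1, hcmp_π, hcmp_π, clI, clI, cl_res (w := Over.w f) (hv' := hv V')]
  refine cl_congr V'.hom J (hv V') n ?_ _ _
  rw [h2, xI_res]

end K855.HomCmp
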