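import Groth.Agent.FibDesc.K31.Cech
import Groth.Agent.EtDual.K933.UDMap
import Mathlib.CategoryTheory.MorphismProperty.Limits
import Mathlib.CategoryTheory.IsConnected

/-!
# Čech nerves and limits

A limit of morphisms `X_i ⟶ T` (in `Over T`) gives a limit of Čech nerves, in every degree.
-/

set_option autoImplicit false
set_option backward.isDefEq.respectTransparency false
set_option backward.isDefEq.respectTransparency.types false

open CategoryTheory CategoryTheory.Limits Opposite K781.Desc K781.Cech

universe v₁ u₁ w w'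

namespace K855.NerveLim

variable {C : Type u₁} [Category.{v₁} C]
    [∀ (n : ℕ) (f : Arrow C), HasWidePullback f.right (fun _ : Fin (n + 1) => f.left) fun _ => f.hom]

section map

variable {T : C}

/-- The map of nerves. -/
theorem exists_map {X X' : Over T} (f : X ⟶ X') :
    ∃ φ : nerve X.hom ⟶ nerve X'.hom, φ.app (op (ob 0)) ≫ (nerveZero X'.hom).hom = (nerveZero X.hom).hom ≫ f.left ∧
      φ.app (op .star) = 𝟙 T := by
  obtain ⟨φ, h0, h1⟩ := exists_hom (isCech_nerve X'.hom) (τ := nerve X.hom)
    ((nerveZero X.hom).hom ≫ f.left ≫ (nerveZero X'.hom).inv) (𝟙 T) (by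
      have h2 : (nerve X.hom).map (init (ob 0)).op = (nerveZero X.hom).hom ≫ X.hom := (nerveZero_hom _).symm
      have h3 : (nerveZero X'.hom).inv ≫ (nerve X'.hom).map (init (ob 0)).op = X'.hom := nerveZero_inv _
      rw [Category.assoc, Category.assoc, h3, Over.w, ← h2]
      exact Category.comp_id _)
  exact ⟨φ, by rw [h0]; simp, h1⟩

/-- The map of nerves. -/
noncomputable def nmap {X X' : Over T} (f : X ⟶ X') : nerve X.hom ⟶ nerve X'.hom := (exists_map f).choose

theorem nmap_zero {X X' : Over T} (f : X ⟶ X') :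
    (nmap f).app (op (ob 0)) ≫ (nerveZero X'.hom).hom = (nerveZero X.hom).hom ≫ f.left := (exists_map f).choose_spec.1

theorem nmap_star {X X' : Over T} (f : X ⟶ X') : (nmap f).app (op .star) = 𝟙 T := (exists_map f).choose_spec.2

theorem nmap_ext {τ : Dpᵒᵖ ⥤ C} {X : Over T} (φ ψ : τ ⟶ nerve X.hom)
    (h₀ : φ.app (op (ob 0)) ≫ (nerveZero X.hom).hom = ψ.app (op (ob 0)) ≫ (nerveZero X.hom).hom)
    (h₁ : φ.app (op .star) = ψ.app (op .star)) : φ = ψ :=
  hom_ext (isCech_nerve X.hom) φ ψ ((cancel_mono _).1 h₀) h₁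

variable (T) in
/-- The Čech nerve as a functor on `Over T`. -/
@[simps]
noncomputable def nF : Over T ⥤ Dpᵒᵖ ⥤ C where
  obj X := nerve X.hom
  map f := nmap f
  map_id X := by
    apply nmap_ext
    · rw [nmap_zero]
      exact (Category.comp_id _).trans (Category.id_comp _).symm
    · rw [nmap_star]
      rfl
  map_comp f g := by
    apply nmap_ext
    · rw [nmap_zero, NatTrans.comp_app, Category.assoc, nmap_zero, ← Category.assoc, nmap_zero, Category.assoc]
      rfl
    · rw [nmap_star, NatTrans.comp_app, nmap_star, nmap_star]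
      exact (Category.id_comp _).symm

end map

section Lim

variable {I : Type w} [Category.{w'} I] [IsConnected I] {τ : Dpᵒᵖ ⥤ C} (hτ : IsCech τ)
    (D : I ⥤ Over (τ.obj (op .star))) (c : Cone D) (hc : IsLimit c)
    (e : Over.mk (τ.map (init (ob 0)).op) ≅ c.pt)

omit [IsConnected I] in
theorem exists_proj (i : I) : ∃ φ : τ ⟶ nerve (D.obj i).hom,
    φ.app (op (ob 0)) ≫ (nerveZero (D.obj i).hom).hom = (e.hom ≫ c.π.app i).left ∧
      φ.app (op .star) = 𝟙 (τ.obj (op .star)) := by
  obtain ⟨φ, h0, h1⟩ := exists_hom (isCech_nerve (D.obj i).hom) (τ := τ)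
    ((e.hom ≫ c.π.app i).left ≫ (nerveZero (D.obj i).hom).inv) (𝟙 _) (by
      have h3 : (nerveZero (D.obj i).hom).inv ≫ (nerve (D.obj i).hom).map (init (ob 0)).op = (D.obj i).hom :=
        nerveZero_inv _
      have h4 : (e.hom ≫ c.π.app i).left ≫ (D.obj i).hom = τ.map (init (ob 0)).op := Over.w (e.hom ≫ c.π.app i)
      rw [Category.assoc, h3, h4]
      exact Category.comp_id _)
  exact ⟨φ, by rw [h0]; simp, h1⟩

/-- The projections. -/
noncomputable def proj (i : I) : τ ⟶ nerve (D.obj i).hom := (exists_proj D c e i).choose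

omit [IsConnected I] in
theorem proj_zero (i : I) : (proj D c e i).app (op (ob 0)) ≫ (nerveZero (D.obj i).hom).hom =
    (e.hom ≫ c.π.app i).left := (exists_proj D c e i).choose_spec.1

omit [IsConnected I] in
theorem proj_star (i : I) : (proj D c e i).app (op .star) = 𝟙 (τ.obj (op .star)) :=
  (exists_proj D c e i).choose_spec.2

/-- The cone of nerves. -/
noncomputable def pc : (Functor.const I).obj τ ⟶ D ⋙ nF (τ.obj (op .star)) where
  app i := proj D c e i
  naturality i j f := by
    apply nmap_ext
    · change (𝟙 _ ≫ (proj D c e j).app (op (ob 0))) ≫ _ =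
        ((proj D c e i).app (op (ob 0)) ≫ (nmap (D.map f)).app (op (ob 0))) ≫ (nerveZero (D.obj j).hom).hom
      rw [Category.id_comp, proj_zero, Category.assoc, nmap_zero, ← Category.assoc, proj_zero, ← Over.comp_left,
        Category.assoc, c.w]
    · change 𝟙 _ ≫ (proj D c e j).app (op .star) = (proj D c e i).app (op .star) ≫ (nmap (D.map f)).app (op .star)
      rw [proj_star, proj_star, nmap_star]

theorem isLimit_star : Nonempty (IsLimit (((evaluation Dpᵒᵖ C).obj (op .star)).mapCone ⟨τ, pc D c e⟩)) := by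
  have hs : ∀ (s : Cone ((D ⋙ nF (τ.obj (op .star))) ⋙ (evaluation Dpᵒᵖ C).obj (op .star))) (j j' : I),
      (show s.pt ⟶ τ.obj (op .star) from s.π.app j) = s.π.app j' := by
    intro s
    refine constant_of_preserves_morphisms (fun j => (show s.pt ⟶ τ.obj (op .star) from s.π.app j)) ?_
    intro j₁ j₂ f
    have h := s.w f
    have h2 : ((D ⋙ nF (τ.obj (op .star))) ⋙ (evaluation Dpᵒᵖ C).obj (op .star)).map f = 𝟙 (τ.obj (op .star)) :=
      nmap_star (D.map f)
    rw [h2] at h
    exact (Category.comp_id _).symm.trans h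
  have h1 : ∀ j, (((evaluation Dpᵒᵖ C).obj (op .star)).mapCone ⟨τ, pc D c e⟩).π.app j = 𝟙 (τ.obj (op .star)) :=
    fun j => proj_star D c e j
  exact ⟨{
    lift := fun s => s.π.app (Classical.arbitrary I)
    fac := fun s j => by
      rw [h1]
      exact (Category.comp_id _).trans (hs s _ _)
    uniq := fun s m hm => by
      have := hm (Classical.arbitrary I)
      rw [h1] at this
      exact (Category.comp_id _).symm.trans this }⟩

include hτ hc in
theorem isLimit_ob (n : ℕ) : Nonempty (IsLimit (((evaluation Dpᵒᵖ C).obj (op (ob n))).mapCone ⟨τ, pc D c e⟩)) := by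
  let T := τ.obj (op .star)
  -- the vertices of a cone
  let vs (s : Cone ((D ⋙ nF (τ.obj (op .star))) ⋙ (evaluation Dpᵒᵖ C).obj (op (ob n)))) (k : Fin (n + 1)) (j : I) :
      s.pt ⟶ (D.obj j).left :=
    s.π.app j ≫ (nerve (D.obj j).hom).map (vtx n k).op ≫ (nerveZero (D.obj j).hom).hom
  have hvs0 : ∀ s (k : Fin (n + 1)) (j : I), vs s k j ≫ (D.obj j).hom =
      s.π.app j ≫ (nerve (D.obj j).hom).map (init (ob n)).op := by
    intro s k j
    simp only [vs]
    rw [Category.assoc, Category.assoc, nerveZero_hom, map_vtx_init]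
  have hvs1 : ∀ s (k : Fin (n + 1)) {j j' : I} (f : j ⟶ j'), vs s k j ≫ (D.map f).left = vs s k j' := by
    intro s k j j' f
    simp only [vs]
    rw [← s.w f]
    change (s.π.app j ≫ (nerve (D.obj j).hom).map (vtx n k).op ≫ (nerveZero (D.obj j).hom).hom) ≫ (D.map f).left =
      (s.π.app j ≫ (nmap (D.map f)).app (op (ob n))) ≫
        (nerve (D.obj j').hom).map (vtx n k).op ≫ (nerveZero (D.obj j').hom).hom
    rw [Category.assoc, Category.assoc, Category.assoc, ← nmap_zero, ← NatTrans.naturality_assoc]
  have hb : ∀ s (k : Fin (n + 1)) (j j' : I), vs s k j ≫ (D.obj j).hom = vs s k j' ≫ (D.obj j').hom := by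
    intro s k
    refine constant_of_preserves_morphisms (fun j => vs s k j ≫ (D.obj j).hom) ?_
    intro j₁ j₂ f
    exact (congrArg (fun t => vs s k j₁ ≫ t) (Over.w (D.map f)).symm).trans
      ((Category.assoc _ _ _).symm.trans (congrArg (fun t => t ≫ (D.obj j₂).hom) (hvs1 s k f)))
  -- the cone over `D`
  let j₀ : I := Classical.arbitrary I
  let cn (s : Cone ((D ⋙ nF (τ.obj (op .star))) ⋙ (evaluation Dpᵒᵖ C).obj (op (ob n)))) (k : Fin (n + 1)) : Cone D :=
    { pt := Over.mk (vs s k j₀ ≫ (D.obj j₀).hom)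
      π := { app := fun j => Over.homMk (vs s k j) (hb s k j j₀)
             naturality := fun j j' f => by
               ext
               change 𝟙 _ ≫ vs s k j' = vs s k j ≫ (D.map f).left
               rw [hvs1, Category.id_comp] } }
  let av (s : Cone ((D ⋙ nF (τ.obj (op .star))) ⋙ (evaluation Dpᵒᵖ C).obj (op (ob n)))) (k : Fin (n + 1)) :
      Over.mk (vs s k j₀ ≫ (D.obj j₀).hom) ⟶ Over.mk (τ.map (init (ob 0)).op) := hc.lift (cn s k) ≫ e.inv
  have hav : ∀ s k j, av s k ≫ e.hom ≫ c.π.app j = Over.homMk (vs s k j) (hb s k j j₀) := by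
    intro s k j
    exact (Category.assoc _ _ _).trans
      ((congrArg (fun t => hc.lift (cn s k) ≫ t) (Iso.inv_hom_id_assoc e _)).trans (hc.fac (cn s k) j))
  have hav1 : ∀ s k j, (av s k).left ≫ (e.hom ≫ c.π.app j).left = vs s k j := fun s k j =>
    congrArg (fun t => t.left) (hav s k j)
  have hav0 : ∀ s k, (av s k).left ≫ τ.map (init (ob 0)).op = s.π.app j₀ ≫ (nerve (D.obj j₀).hom).map (init (ob n)).op := by
    intro s k
    rw [← hvs0 s k j₀]
    exact Over.w (av s k)
  have hL : ∀ s, ∃ L : s.pt ⟶ τ.obj (op (ob n)), ∀ k, L ≫ τ.map (vtx n k).op = (av s k).left := fun s =>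
    hτ.exists_lift n s.pt (fun k => (av s k).left) fun k l => by rw [hav0, hav0]
  choose L hL using hL
  have hp : ∀ (j : I) (k : Fin (n + 1)), (proj D c e j).app (op (ob n)) ≫ (nerve (D.obj j).hom).map (vtx n k).op ≫
      (nerveZero (D.obj j).hom).hom = τ.map (vtx n k).op ≫ (e.hom ≫ c.π.app j).left := by
    intro j k
    rw [← NatTrans.naturality_assoc, proj_zero]
  exact ⟨{
    lift := L
    fac := fun s j => by
      apply (isCech_nerve (D.obj j).hom).hom_ext n
      intro k
      rw [← cancel_mono (nerveZero (D.obj j).hom).hom]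
      change ((L s ≫ (proj D c e j).app (op (ob n))) ≫ (nerve (D.obj j).hom).map (vtx n k).op) ≫ _ = _
      rw [Category.assoc, Category.assoc, hp, ← Category.assoc, hL, hav1]
      exact (Category.assoc _ _ _).symm
    uniq := fun s m hm => by
      apply hτ.hom_ext n
      intro k
      rw [hL]
      have h1 : (m ≫ τ.map (vtx n k).op) ≫ τ.map (init (ob 0)).op = vs s k j₀ ≫ (D.obj j₀).hom := by
        rw [hvs0, ← hm j₀]
        change _ = (m ≫ (proj D c e j₀).app (op (ob n))) ≫ _
        rw [Category.assoc, Category.assoc, map_vtx_init, ← NatTrans.naturality, proj_star]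
        congr 1
        exact (Category.comp_id _).symm
      let m' : Over.mk (vs s k j₀ ≫ (D.obj j₀).hom) ⟶ Over.mk (τ.map (init (ob 0)).op) :=
        Over.homMk (m ≫ τ.map (vtx n k).op) h1
      have h2 : m' = av s k := by
        rw [← cancel_mono e.hom]
        apply hc.hom_ext
        intro j
        refine (Category.assoc _ _ _).trans (Eq.trans ?_ ((Category.assoc _ _ _).trans (hav s k j)).symm)
        ext
        change (m ≫ τ.map (vtx n k).op) ≫ (e.hom ≫ c.π.app j).left = vs s k j
        rw [Category.assoc, ← hp]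
        simp only [vs]
        rw [← hm j]
        exact (Category.assoc _ _ _).symm
      exact congrArg (fun t => t.left) h2 }⟩

include hτ hc in
/-- The nerve of a limit is the limit of the nerves, in every degree. -/
theorem isLimit (x : Dp) : Nonempty (IsLimit (((evaluation Dpᵒᵖ C).obj (op x)).mapCone ⟨τ, pc D c e⟩)) := by
  rcases x with n | _
  · exact isLimit_ob hτ D c hc e n.len
  · exact isLimit_star D c e

end Lim

section prop

omit [∀ (n : ℕ) (f : Arrow C), HasWidePullback f.right (fun _ : Fin (n + 1) => f.left) fun _ => f.hom]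

theorem map_init_star {τ : Dpᵒᵖ ⥤ C} : τ.map (init .star).op = 𝟙 _ := by
  have : (init .star : WithInitial.star ⟶ .star) = 𝟙 _ := Subsingleton.elim _ _
  rw [this, op_id, τ.map_id]

/-- A property of the augmentation holds for all the terms of the nerve over the base. -/
theorem map_init (P : MorphismProperty C) [P.IsMultiplicative] [P.IsStableUnderBaseChange] {τ : Dpᵒᵖ ⥤ C}
    (hτ : IsCech τ) (h : P (τ.map (init (ob 0)).op)) (x : Dp) : P (τ.map (init x).op) := by
  have h1 : ∀ n : ℕ, P (τ.map (init (ob n)).op) := by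
    intro n
    induction n with
    | zero => exact h
    | succ n ih =>
      have h2 := K933.UnivDesc.isPullback_cech hτ n
      have h3 : P (K933.UnivDesc.fcl τ n) := P.of_isPullback h2.flip h
      rw [← map_incl_init τ (SimplexCategory.δ (Fin.last (n + 1)))]
      exact P.comp_mem _ _ h3 ih
  rcases x with n | _
  · exact h1 n.len
  · have := P.id_mem (τ.obj (op .star))
    rw [← map_init_star] at this
    exact this

end prop

end K855.NerveLim
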