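import Groth.Agent.FibDesc.K290.ElDesc
import Mathlib.Algebra.Category.Grp.FilteredColimits
import Mathlib.CategoryTheory.Limits.ConcreteCategory.Basic

/-!
# Descent and filtered colimits

* `isDesc_of_elColim`: a filtered elementwise colimit of coaugmented cosimplicial complexes with descent has descent.
* `isDesc_of_cohColim`: the same if only the cohomology at every object of `Dp` is the elementwise colimit.
-/

set_option autoImplicit false
set_option backward.isDefEq.respectTransparency false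
set_option backward.isDefEq.respectTransparency.types false

universe v' u' w

open CategoryTheory CategoryTheory.Limits Opposite ComplexShape

noncomputable section

namespace K855.ColimDesc

open K781.Desc K290.ElDesc Groth.Agent.Htor.H253.AbQuasi

variable {J : Type u'} [Category.{v'} J] [IsFiltered J]

omit [IsFiltered J] in
/-- A finite number of eventual properties hold simultaneously. -/
theorem exists_common [IsFiltered J] (j : J) (Q : ℕ → ∀ k : J, (j ⟶ k) → Prop)
    (hQ : ∀ n k (f : j ⟶ k) l (g : k ⟶ l), Q n k f → Q n l (f ≫ g)) (N : ℕ)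
    (h : ∀ n < N, ∃ k f, Q n k f) : ∃ (k : J) (f : j ⟶ k), ∀ n < N, Q n k f := by
  induction N with
  | zero => exact ⟨j, 𝟙 j, fun n hn => absurd hn (Nat.not_lt_zero n)⟩
  | succ N ih =>
    obtain ⟨k, f, hf⟩ := ih fun n hn => h n (Nat.lt_succ_of_lt hn)
    obtain ⟨l, g, hg⟩ := h N (Nat.lt_succ_self N)
    obtain ⟨m, a, b, hab⟩ := IsFiltered.span f g
    refine ⟨m, f ≫ a, fun n hn => ?_⟩
    rcases Nat.lt_succ_iff_lt_or_eq.1 hn with hn | rfl
    · exact hQ _ _ _ _ _ (hf n hn)
    · rw [hab]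
      exact hQ _ _ _ _ _ hg

variable {A : J ⥤ CochainComplex (Dp ⥤ AddCommGrpCat.{w}) ℤ}

/-- Transition maps, elementwise. -/
abbrev tr (A : J ⥤ CochainComplex (Dp ⥤ AddCommGrpCat.{w}) ℤ) {j k : J} (f : j ⟶ k) (i : ℤ) (x : Dp) :
    vl (A.obj j) i x ⟶ vl (A.obj k) i x := ((A.map f).f i).app x

/-- Maps to the point of a cocone, elementwise. -/
abbrev io (c : Cocone A) (j : J) (i : ℤ) (x : Dp) : vl (A.obj j) i x ⟶ vl c.pt i x := ((c.ι.app j).f i).app x

section elt

variable {B B' : CochainComplex (Dp ⥤ AddCommGrpCat.{w}) ℤ} (φ : B ⟶ B')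

/-- A morphism, elementwise. -/
abbrev mp (i : ℤ) (x : Dp) : vl B i x ⟶ vl B' i x := (φ.f i).app x

theorem mp_df (i i' : ℤ) (x : Dp) (a : vl B i x) : mp φ i' x (df B i i' x a) = df B' i i' x (mp φ i x a) := by
  have h1 := congrArg (fun t : B.X i ⟶ B'.X i' => t.app x a) (φ.comm i i')
  exact h1.symm

theorem mp_map (i : ℤ) {x y : Dp} (g : x ⟶ y) (a : vl B i x) :
    mp φ i y ((B.X i).map g a) = (B'.X i).map g (mp φ i x a) :=
  congr($((φ.f i).naturality g) a)

theorem mp_au (i : ℤ) (a : vl B i WithInitial.star) : mp φ i (ob 0) (au B i a) = au B' i (mp φ i _ a) :=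
  mp_map φ i (init (ob 0)) a

theorem mp_de (i : ℤ) (n : ℕ) (a : vl B i (ob n)) : mp φ i (ob (n + 1)) (de B i n a) = de B' i n (mp φ i _ a) := by
  have h1 : dd ((rF _).obj (B.X i)) n ≫ (φ.f i).app (ob (n + 1)) =
      (φ.f i).app (ob n) ≫ dd ((rF _).obj (B'.X i)) n := by
    rw [dd, dd, Preadditive.sum_comp, Preadditive.comp_sum]
    refine Finset.sum_congr rfl fun l _ => ?_
    rw [Preadditive.zsmul_comp, Preadditive.comp_zsmul]
    congr 1
    exact (φ.f i).naturality (WithInitial.incl.map (SimplexCategory.δ l))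
  exact congr($h1 a)

end elt

variable {c : Cocone A}

omit [IsFiltered J] in
theorem tr_tr {j k l : J} (f : j ⟶ k) (g : k ⟶ l) (i : ℤ) (x : Dp) (a : vl (A.obj j) i x) :
    tr A g i x (tr A f i x a) = tr A (f ≫ g) i x a := by
  have h1 : (A.map (f ≫ g)).f i = (A.map f).f i ≫ (A.map g).f i := by rw [A.map_comp]; rfl
  exact (congrArg (fun t : (A.obj j).X i ⟶ (A.obj l).X i => t.app x a) h1).symm

omit [IsFiltered J] in
theorem io_tr {j k : J} (f : j ⟶ k) (i : ℤ) (x : Dp) (a : vl (A.obj j) i x) :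
    io c k i x (tr A f i x a) = io c j i x a := by
  have h1 : (A.map f).f i ≫ (c.ι.app k).f i = (c.ι.app j).f i := by rw [← c.w f]; rfl
  exact congrArg (fun t : (A.obj j).X i ⟶ c.pt.X i => t.app x a) h1

variable (c) in
/-- Elementwise colimit cocones. -/
structure ElColim : Prop where
  surj : ∀ (i : ℤ) (x : Dp) (e : vl c.pt i x), ∃ (j : J) (e' : vl (A.obj j) i x), io c j i x e' = e
  inj : ∀ (j : J) (i : ℤ) (x : Dp) (e : vl (A.obj j) i x), io c j i x e = 0 →
    ∃ (k : J) (f : j ⟶ k), tr A f i x e = 0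

omit [IsFiltered J] in
theorem ElColim.inj' (h : ElColim c) (j : J) (i : ℤ) (x : Dp) (a b : vl (A.obj j) i x)
    (hab : io c j i x a = io c j i x b) : ∃ (k : J) (f : j ⟶ k), tr A f i x a = tr A f i x b := by
  obtain ⟨k, f, hf⟩ := h.inj j i x (a - b) (by rw [map_sub, hab, sub_self])
  exact ⟨k, f, sub_eq_zero.1 (by rw [← map_sub, hf])⟩

/-- Lifting a finite number of elements to a common stage. -/
theorem ElColim.exists_lift (h : ElColim c) (k : ℕ → ℤ) (x : ℕ → Dp) (v : ∀ n, vl c.pt (k n) (x n)) (N : ℕ)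
    (hv : ∀ n, N ≤ n → v n = 0) (j₀ : J) :
    ∃ (j : J) (_ : j₀ ⟶ j) (v' : ∀ n, vl (A.obj j) (k n) (x n)), (∀ n, N ≤ n → v' n = 0) ∧
      ∀ n, io c j (k n) (x n) (v' n) = v n := by
  have key : ∀ M : ℕ, ∃ (j : J) (_ : j₀ ⟶ j) (v' : ∀ n, vl (A.obj j) (k n) (x n)), (∀ n, M ≤ n → v' n = 0) ∧
      ∀ n, n < M → io c j (k n) (x n) (v' n) = v n := by
    intro M
    induction M with
    | zero => exact ⟨j₀, 𝟙 _, fun n => 0, fun n _ => rfl, fun n hn => absurd hn (Nat.not_lt_zero n)⟩
    | succ M ih =>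
      obtain ⟨j, g, v', h1, h2⟩ := ih
      obtain ⟨l, e, he⟩ := h.surj (k M) (x M) (v M)
      let m := IsFiltered.max j l
      let a : j ⟶ m := IsFiltered.leftToMax j l
      let b : l ⟶ m := IsFiltered.rightToMax j l
      refine ⟨m, g ≫ a, fun n => if hn : n = M then hn ▸ tr A b (k M) (x M) e else tr A a (k n) (x n) (v' n), ?_, ?_⟩
      · intro n hn
        have hn' : n ≠ M := by lia
        simp only [hn', dif_neg, not_false_eq_true]
        rw [h1 n (by lia), map_zero]
      · intro n hn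
        by_cases hn' : n = M
        · subst hn'
          simp only [dif_pos]
          rw [io_tr, he]
        · simp only [hn', dif_neg, not_false_eq_true]
          rw [io_tr, h2 n (by lia)]
  obtain ⟨j, g, v', h1, h2⟩ := key N
  refine ⟨j, g, v', h1, fun n => ?_⟩
  rcases Nat.lt_or_ge n N with hn | hn
  · exact h2 n hn
  · rw [h1 n hn, hv n hn, map_zero]

theorem elDesc_of_elColim (h : ElColim c) (hb : BB c.pt) (hd : ∀ j, ElDesc (A.obj j)) : ElDesc c.pt := by
  intro k hk u v hu hv0 hv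
  obtain ⟨a, ha⟩ := hb
  have hkn : ∀ n : ℕ, k n = k 0 - n := by
    intro n
    induction n with
    | zero => simp
    | succ n ih =>
      have := hk n
      push_cast
      lia
  obtain ⟨N, hN⟩ : ∃ N : ℕ, ∀ n, N ≤ n → k n < a := by
    refine ⟨(k 0 - a + 1).toNat, fun n hn => ?_⟩
    rw [hkn]
    lia
  have hz : ∀ (i : ℤ) (x : Dp) (e : vl c.pt i x), i < a → e = 0 := fun i x e hi =>
    eq_zero_of_isZero (((evaluation Dp AddCommGrpCat.{w}).obj x).map_isZero (ha i hi)) e
  have hvz : ∀ n, N ≤ n → v n = 0 := fun n hn => hz _ _ _ (hN n hn)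
  obtain ⟨j₀, u', hu'⟩ := h.surj (k 0 + 1) WithInitial.star u
  obtain ⟨j, g, v', hv'z, hv'⟩ := h.exists_lift k (fun n => ob n) v N hvz j₀
  let u₁ := tr A g (k 0 + 1) WithInitial.star u'
  have hu₁ : io c j (k 0 + 1) WithInitial.star u₁ = u := by rw [io_tr, hu']
  -- the relations hold at a later stage
  obtain ⟨l, f, hf⟩ := exists_common j
    (fun n l f => match n with
      | 0 => df (A.obj l) (k 0 + 1) (k 0 + 1 + 1) WithInitial.star (tr A f _ _ u₁) = 0 ∧
          df (A.obj l) (k 0) (k 0 + 1) (ob 0) (tr A f _ _ (v' 0)) = au (A.obj l) (k 0 + 1) (tr A f _ _ u₁)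
      | n + 1 => df (A.obj l) (k (n + 1)) (k n) (ob (n + 1)) (tr A f _ _ (v' (n + 1))) =
          de (A.obj l) (k n) n (tr A f _ _ (v' n)))
    (fun n l f m g' hn => by
      rcases n with _ | n
      · refine ⟨?_, ?_⟩
        · rw [← tr_tr f g']
          have h1 := mp_df (A.map g') (k 0 + 1) (k 0 + 1 + 1) WithInitial.star (tr A f _ _ u₁)
          exact h1.symm.trans ((congrArg _ hn.1).trans (map_zero _))
        · rw [← tr_tr f g', ← tr_tr f g']
          have h1 := mp_df (A.map g') (k 0) (k 0 + 1) (ob 0) (tr A f _ _ (v' 0))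
          have h2 := mp_au (A.map g') (k 0 + 1) (tr A f _ _ u₁)
          exact h1.symm.trans ((congrArg _ hn.2).trans h2)
      · have hn' : df (A.obj l) (k (n + 1)) (k n) (ob (n + 1)) (tr A f _ _ (v' (n + 1))) =
          de (A.obj l) (k n) n (tr A f _ _ (v' n)) := hn
        change df (A.obj m) (k (n + 1)) (k n) (ob (n + 1)) (tr A (f ≫ g') _ _ (v' (n + 1))) =
          de (A.obj m) (k n) n (tr A (f ≫ g') _ _ (v' n))
        rw [← tr_tr f g', ← tr_tr f g']
        have h1 := mp_df (A.map g') (k (n + 1)) (k n) (ob (n + 1)) (tr A f _ _ (v' (n + 1)))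
        have h2 := mp_de (A.map g') (k n) n (tr A f _ _ (v' n))
        exact h1.symm.trans ((congrArg _ hn').trans h2))
    (N + 1) (fun n _ => by
      rcases n with _ | n
      · obtain ⟨l₁, f₁, h₁⟩ := h.inj j _ _ (df (A.obj j) (k 0 + 1) (k 0 + 1 + 1) WithInitial.star u₁) (by
          have h1 := mp_df (c.ι.app j) (k 0 + 1) (k 0 + 1 + 1) WithInitial.star u₁
          exact h1.trans ((congrArg _ hu₁).trans hu))
        obtain ⟨l₂, f₂, h₂⟩ := h.inj' j _ _ (df (A.obj j) (k 0) (k 0 + 1) (ob 0) (v' 0))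
          (au (A.obj j) (k 0 + 1) u₁) (by
          have h1 := mp_df (c.ι.app j) (k 0) (k 0 + 1) (ob 0) (v' 0)
          have h2 := mp_au (c.ι.app j) (k 0 + 1) u₁
          exact h1.trans ((congrArg _ (hv' 0)).trans (hv0.trans ((congrArg _ hu₁).symm.trans h2.symm))))
        obtain ⟨m, a₁, a₂, ha⟩ := IsFiltered.span f₁ f₂
        refine ⟨m, f₁ ≫ a₁, ?_, ?_⟩
        · have h1 := mp_df (A.map (f₁ ≫ a₁)) (k 0 + 1) (k 0 + 1 + 1) WithInitial.star u₁
          refine h1.symm.trans ?_
          change tr A (f₁ ≫ a₁) _ _ _ = 0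
          rw [← tr_tr f₁ a₁, h₁, map_zero]
        · have h1 := mp_df (A.map (f₁ ≫ a₁)) (k 0) (k 0 + 1) (ob 0) (v' 0)
          have h2 := mp_au (A.map (f₁ ≫ a₁)) (k 0 + 1) u₁
          refine h1.symm.trans (Eq.trans ?_ h2)
          change tr A (f₁ ≫ a₁) _ _ _ = tr A (f₁ ≫ a₁) _ _ _
          rw [ha, ← tr_tr f₂ a₂, h₂, tr_tr]
      · obtain ⟨m, f', hm⟩ := h.inj' j _ _ (df (A.obj j) (k (n + 1)) (k n) (ob (n + 1)) (v' (n + 1)))
          (de (A.obj j) (k n) n (v' n)) (by
          have h1 := mp_df (c.ι.app j) (k (n + 1)) (k n) (ob (n + 1)) (v' (n + 1))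
          have h2 := mp_de (c.ι.app j) (k n) n (v' n)
          exact h1.trans ((congrArg _ (hv' (n + 1))).trans ((hv n).trans ((congrArg _ (hv' n)).symm.trans h2.symm))))
        refine ⟨m, f', ?_⟩
        have h1 := mp_df (A.map f') (k (n + 1)) (k n) (ob (n + 1)) (v' (n + 1))
        have h2 := mp_de (A.map f') (k n) n (v' n)
        exact h1.symm.trans (hm.trans h2))
  have hrel : ∀ n, df (A.obj l) (k (n + 1)) (k n) (ob (n + 1)) (tr A f _ _ (v' (n + 1))) =
      de (A.obj l) (k n) n (tr A f _ _ (v' n)) := by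
    intro n
    rcases Nat.lt_or_ge n N with hn | hn
    · exact hf (n + 1) (by lia)
    · rw [hv'z n hn, hv'z (n + 1) (by lia), map_zero, map_zero, map_zero, map_zero]
  obtain ⟨x, z, hx, hz0, hz1⟩ := hd l k hk (tr A f _ _ u₁) (fun n => tr A f _ _ (v' n)) (hf 0 (by lia)).1
    (hf 0 (by lia)).2 hrel
  refine ⟨io c l _ _ x, fun n => io c l _ _ (z n), ?_, ?_, fun n => ?_⟩
  · have h1 := mp_df (c.ι.app l) (k 0) (k 0 + 1) WithInitial.star x
    refine h1.symm.trans ((congrArg _ hx).trans ?_)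
    change io c l _ _ _ = _
    rw [io_tr, hu₁]
  · rw [← hv' 0, ← io_tr f]
    have h1 := congrArg (io c l (k 0) (ob 0)) hz0
    rw [map_add] at h1
    have h2 := mp_df (c.ι.app l) (k 1) (k 0) (ob 0) (z 0)
    have h3 := mp_au (c.ι.app l) (k 0) x
    exact h1.trans (congrArg₂ (· + ·) h3 h2)
  · rw [← hv' (n + 1), ← io_tr f]
    have h1 := congrArg (io c l (k (n + 1)) (ob (n + 1))) (hz1 n)
    rw [map_add] at h1
    have h2 := mp_df (c.ι.app l) (k (n + 2)) (k (n + 1)) (ob (n + 1)) (z (n + 1))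
    have h3 := mp_de (c.ι.app l) (k (n + 1)) n (z n)
    exact h1.trans (congrArg₂ (· + ·) h2 h3)

/-! ### Colimits in cohomology -/

variable (c) in
/-- The cohomology at every object of `Dp` is the elementwise colimit (on the level of cocycles). -/
structure CohColim : Prop where
  surj : ∀ (p i s : ℤ) (_ : p + 1 = i) (_ : i + 1 = s) (x : Dp) (z : vl c.pt i x), df c.pt i s x z = 0 →
    ∃ (j : J) (z' : vl (A.obj j) i x) (y : vl c.pt p x), df (A.obj j) i s x z' = 0 ∧
      z = io c j i x z' + df c.pt p i x y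
  inj : ∀ (j : J) (p i s : ℤ) (_ : p + 1 = i) (_ : i + 1 = s) (x : Dp) (z : vl (A.obj j) i x),
    df (A.obj j) i s x z = 0 → (∃ y : vl c.pt p x, io c j i x z = df c.pt p i x y) →
      ∃ (k : J) (f : j ⟶ k) (y : vl (A.obj k) p x), tr A f i x z = df (A.obj k) p i x y

/-- Evaluation of a complex of functors at an object. -/
abbrev evC (x : Dp) : CochainComplex (Dp ⥤ AddCommGrpCat.{w}) ℤ ⥤ CochainComplex AddCommGrpCat.{w} ℤ :=
  ((evaluation Dp AddCommGrpCat.{w}).obj x).mapHomologicalComplex (up ℤ)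

/-- Maps to the point of a cocone, at an object. -/
abbrev ioC (c : Cocone A) (j : J) (x : Dp) : (evC x).obj (A.obj j) ⟶ (evC x).obj c.pt := (evC x).map (c.ι.app j)

omit [IsFiltered J] in
open Groth.Agent.Etcore.AbHomology in
theorem cohColim_of_homology
    (hs : ∀ (i : ℤ) (x : Dp) (ξ : ((evC x).obj c.pt).homology i), ∃ (j : J) (η : ((evC x).obj (A.obj j)).homology i),
      HomologicalComplex.homologyMap (ioC c j x) i η = ξ)
    (hi : ∀ (j : J) (i : ℤ) (x : Dp) (η : ((evC x).obj (A.obj j)).homology i),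
      HomologicalComplex.homologyMap (ioC c j x) i η = 0 →
        ∃ (k : J) (f : j ⟶ k), HomologicalComplex.homologyMap ((evC x).map (A.map f)) i η = 0) : CohColim c where
  surj p i s hp hq x z hz := by
    obtain ⟨ζ, hζ⟩ := exists_cycles ((evC x).obj c.pt) z s (by simp; lia) hz
    obtain ⟨j, η, hη⟩ := hs i x (((evC x).obj c.pt).homologyπ i ζ)
    obtain ⟨η', rfl⟩ := homologyπ_surj _ η
    rw [homologyMap_π] at hη
    have h1 : ((evC x).obj c.pt).homologyπ i (ζ - HomologicalComplex.cyclesMap (ioC c j x) i η') = 0 := by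
      rw [map_sub, hη, sub_self]
    rw [homologyπ_eq_zero_iff _ _ p (by simp; lia)] at h1
    obtain ⟨y, hy⟩ := h1
    refine ⟨j, ((evC x).obj (A.obj j)).iCycles i η', y, d_iCycles ((evC x).obj (A.obj j)) s η', ?_⟩
    rw [map_sub, cyclesMap_i, hζ] at hy
    have h2 : df c.pt p i x y = z - io c j i x (((evC x).obj (A.obj j)).iCycles i η') := hy
    rw [h2]
    exact (add_sub_cancel _ _).symm
  inj j p i s hp hq x z hz := by
    rintro ⟨y, hy⟩
    obtain ⟨ζ, hζ⟩ := exists_cycles ((evC x).obj (A.obj j)) z s (by simp; lia) hz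
    obtain ⟨k, f, hf⟩ := hi j i x (((evC x).obj (A.obj j)).homologyπ i ζ) (by
      rw [homologyMap_π, homologyπ_eq_zero_iff _ _ p (by simp; lia)]
      refine ⟨y, ?_⟩
      rw [cyclesMap_i, hζ]
      exact hy.symm)
    rw [homologyMap_π, homologyπ_eq_zero_iff _ _ p (by simp; lia)] at hf
    obtain ⟨y', hy'⟩ := hf
    refine ⟨k, f, y', ?_⟩
    rw [cyclesMap_i, hζ] at hy'
    exact hy'.symm

section colimit

variable [HasColimitsOfShape J AddCommGrpCat.{w}] [PreservesColimitsOfShape J (forget AddCommGrpCat.{w})]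

/-- Elements of the complex at `i`, `x`. -/
abbrev evx (i : ℤ) (x : Dp) : CochainComplex (Dp ⥤ AddCommGrpCat.{w}) ℤ ⥤ AddCommGrpCat.{w} :=
  HomologicalComplex.eval _ _ i ⋙ (evaluation Dp AddCommGrpCat.{w}).obj x

theorem elColim_of_isColimit (hc : IsColimit c) : ElColim c where
  surj i x e := by
    have h1 := isColimitOfPreserves (evx i x) hc
    exact Concrete.isColimit_exists_rep _ h1 e
  inj j i x e he := by
    have h1 := isColimitOfPreserves (evx i x) hc
    have h2 : ((evx i x).mapCocone c).ι.app j e = ((evx i x).mapCocone c).ι.app j 0 := by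
      refine Eq.trans ?_ (map_zero _).symm
      exact he
    obtain ⟨k, f, g, hfg⟩ := Concrete.isColimit_exists_of_rep_eq _ h1 _ _ h2
    refine ⟨k, f, ?_⟩
    refine Eq.trans hfg ?_
    exact map_zero _

/-- **Descent passes to filtered colimits in cohomology.** -/
theorem isDesc_of_cohColim [∀ D : HomologicalComplex₂ AddCommGrpCat.{w} (up ℤ) (up ℤ), D.HasTotal (up ℤ)]
    (h : CohColim c) (a : ℤ) (hA : ∀ j i, i < a → IsZero ((A.obj j).X i)) (hc : ∀ i, i < a → IsZero (c.pt.X i))
    (hd : ∀ j, IsDesc (A.obj j)) : IsDesc c.pt := by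
  have hcol : ElColim (colimit.cocone A) := elColim_of_isColimit (colimit.isColimit A)
  have hb : BB (colimit A) := ⟨a, fun i hi => by
    have h1 := isColimitOfPreserves (HomologicalComplex.eval (Dp ⥤ AddCommGrpCat.{w}) (up ℤ) i) (colimit.isColimit A)
    have h2 : IsZero (A ⋙ HomologicalComplex.eval (Dp ⥤ AddCommGrpCat.{w}) (up ℤ) i) :=
      Functor.isZero _ fun j => hA j i hi
    exact (IsZero.iff_id_eq_zero _).2 (h1.hom_ext fun j => (hA j i hi).eq_of_src _ _)⟩
  have h1 : ElDesc (colimit A) :=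
    elDesc_of_elColim hcol hb fun j => elDesc_of_isDesc ⟨a, fun i hi => hA j i hi⟩ (hd j)
  have h2 : IsDesc (colimit A) := isDesc_of_elDesc hb h1
  refine (isDesc_iff_of_quasi hb ⟨a, hc⟩ (colimit.desc A c) fun x => ?_).1 h2
  apply quasiIso_of_isConeElt
  intro p q r s hpq hqr hrs u v hu huv
  let u₀ : vl (colimit A) r x := u
  let v₀ : vl c.pt q x := v
  have hu₀ : df (colimit A) r s x u₀ = 0 := hu
  have huv₀ : mp (colimit.desc A c) r x u₀ = df c.pt q r x v₀ := huv
  obtain ⟨j, u₁, hu₁⟩ := hcol.surj r x u₀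
  have hdesc : ∀ (l : J) (i : ℤ) (e : vl (A.obj l) i x),
      mp (colimit.desc A c) i x (io (colimit.cocone A) l i x e) = io c l i x e := by
    intro l i e
    have h3 : (colimit.ι A l).f i ≫ (colimit.desc A c).f i = (c.ι.app l).f i := by
      rw [← HomologicalComplex.comp_f, colimit.ι_desc]
    exact congrArg (fun t : (A.obj l).X i ⟶ c.pt.X i => t.app x e) h3
  obtain ⟨k, f, hf⟩ := hcol.inj j s x (df (A.obj j) r s x u₁) (by
    have h3 := mp_df (colimit.ι A j) r s x u₁
    exact h3.trans ((congrArg _ hu₁).trans hu₀))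
  let u₂ : vl (A.obj k) r x := tr A f r x u₁
  have hu₂ : io (colimit.cocone A) k r x u₂ = u₀ := by rw [io_tr, hu₁]
  have hdu₂ : df (A.obj k) r s x u₂ = 0 := (mp_df (A.map f) r s x u₁).symm.trans hf
  obtain ⟨l, g, y, hy⟩ := h.inj k q r s hqr hrs x u₂ hdu₂ ⟨v₀, by rw [← hdesc, hu₂, huv₀]⟩
  have hv₁ : df c.pt q r x (v₀ - io c l q x y) = 0 := by
    rw [map_sub]
    have h3 := mp_df (c.ι.app l) q r x y
    have h4 : df c.pt q r x (io c l q x y) = df c.pt q r x v₀ := by
      refine h3.symm.trans ?_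
      rw [← hy]
      change io c l r x (tr A g r x u₂) = _
      rw [io_tr, ← hdesc, hu₂, huv₀]
    rw [h4, sub_self]
  obtain ⟨m, z', y', hz', hy'⟩ := h.surj p q r hpq hqr x _ hv₁
  refine ⟨io (colimit.cocone A) l q x y + io (colimit.cocone A) m q x z', -y', ?_, ?_⟩
  · change df (colimit A) q r x _ = u₀
    rw [map_add]
    have h3 := mp_df (colimit.ι A l) q r x y
    have h4 := mp_df (colimit.ι A m) q r x z'
    have h5 : df (colimit A) q r x (io (colimit.cocone A) l q x y) = u₀ := by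
      refine h3.symm.trans ?_
      rw [← hy]
      change io (colimit.cocone A) l r x (tr A g r x u₂) = _
      rw [io_tr, hu₂]
    have h6 : df (colimit A) q r x (io (colimit.cocone A) m q x z') = 0 := by
      refine h4.symm.trans ?_
      rw [hz', map_zero]
    rw [h5, h6, add_zero]
  · change mp (colimit.desc A c) q x _ = v₀ + df c.pt p q x (-y')
    rw [map_add, hdesc, hdesc, map_neg, ← sub_eq_add_neg, eq_sub_iff_add_eq, add_assoc, ← hy']
    abel

end colimit

end K855.ColimDesc
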