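import Groth.Agent.EtDual.K855.HomCmp
import Groth.Agent.EtDual.K855.ColimDesc
import Groth.Agent.EtDual.K933.UnivDesc

/-!
# The complex attached to an augmented simplicial object, functorially

`rsF A : (Dpᵒᵖ ⥤ C)ᵒᵖ ⥤ CochainComplex (Dp ⥤ AddCommGrpCat) ℤ`, `τ ↦ rs τ.rightOp A`.
-/

set_option autoImplicit false
set_option backward.isDefEq.respectTransparency false
set_option backward.isDefEq.respectTransparency.types false

universe u v w

open CategoryTheory CategoryTheory.Limits Opposite ComplexShape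

noncomputable section

namespace K855.RsFun

open K781.Desc K781.Cech K855.ColimDesc

variable {C : Type u} [Category.{v} C] (A : CochainComplex (Cᵒᵖ ⥤ AddCommGrpCat.{w}) ℤ)

/-- `τ ↦ rs τ.rightOp A`. -/
def rsF : (Dpᵒᵖ ⥤ C)ᵒᵖ ⥤ CochainComplex (Dp ⥤ AddCommGrpCat.{w}) ℤ where
  obj τ := rs τ.unop.rightOp A
  map f := (NatTrans.mapHomologicalComplex ((Functor.whiskeringLeft Dp Cᵒᵖ AddCommGrpCat.{w}).map
    (NatTrans.rightOp f.unop)) (up ℤ)).app A
  map_id τ := by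
    ext i x : 3
    exact (A.X i).map_id _
  map_comp f g := by
    ext i x : 3
    exact (A.X i).map_comp _ _

theorem rsF_map_f {τ τ' : (Dpᵒᵖ ⥤ C)ᵒᵖ} (f : τ ⟶ τ') (i : ℤ) (x : Dp) :
    (((rsF A).map f).f i).app x = (A.X i).map (f.unop.app (op x)).op := rfl

/-- Evaluation of a complex of presheaves. -/
abbrev ev (V : C) : CochainComplex (Cᵒᵖ ⥤ AddCommGrpCat.{w}) ℤ ⥤ CochainComplex AddCommGrpCat.{w} ℤ :=
  ((evaluation Cᵒᵖ AddCommGrpCat.{w}).obj (op V)).mapHomologicalComplex (up ℤ)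

/-- Restriction maps. -/
abbrev evm {V V' : C} (f : V' ⟶ V) : (ev V).obj A ⟶ (ev V').obj A :=
  (NatTrans.mapHomologicalComplex ((evaluation Cᵒᵖ AddCommGrpCat.{w}).map f.op) (up ℤ)).app A

theorem evC_obj (τ : (Dpᵒᵖ ⥤ C)ᵒᵖ) (x : Dp) : (evC x).obj ((rsF A).obj τ) = (ev (τ.unop.obj (op x))).obj A := rfl

theorem evC_map {τ τ' : (Dpᵒᵖ ⥤ C)ᵒᵖ} (f : τ ⟶ τ') (x : Dp) :
    (evC x).map ((rsF A).map f) = evm A (f.unop.app (op x)) := rfl


theorem isZero_rsF (τ : (Dpᵒᵖ ⥤ C)ᵒᵖ) (i : ℤ) (h : IsZero (A.X i)) : IsZero (((rsF A).obj τ).X i) :=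
  ((Functor.whiskeringLeft _ _ _).obj τ.unop.rightOp).map_isZero h

end K855.RsFun
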