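import Groth.Agent.HTop.K344.FpLimit
import Groth.Agent.HTop.K344.VTfae
import Groth.Agent.HTop.K344.VLimit
import Groth.Agent.HTop.K343.EtLe
import Groth.Agent.EtDual.K617.VCovCalc
import Groth.Agent.S8976

/-!
# Ring maps with the valuation lifting property are limits of ph coverings
-/

set_option autoImplicit false
universe w u
open CategoryTheory CategoryTheory.Limits AlgebraicGeometry Opposite

namespace K855.VCovPh

open K617.VC HTop

theorem hasValLift {R R' : CommRingCat.{u}} (φ : R ⟶ R') (hφ : VCov φ.hom) :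
    HasValLift (PreZeroHypercover.singleton.{w} (Spec.map φ)) := by
  intro V _ _ g
  obtain ⟨V', i1, i2, i3, i, ψ', hi, hi', hc⟩ := hφ V (Spec.preimage g).hom
  refine ⟨CommRingCat.of V', i2, i3, CommRingCat.ofHom i, ⟨hi, hi'⟩, PUnit.unit,
    Spec.map (CommRingCat.ofHom ψ'), ?_⟩
  change Spec.map (CommRingCat.ofHom ψ') ≫ Spec.map φ = Spec.map (CommRingCat.ofHom i) ≫ g
  have hg : g = Spec.map (Spec.preimage g) := (Spec.map_preimage g).symm
  rw [hg, ← Spec.map_comp, ← Spec.map_comp]
  congr 1
  ext x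
  exact congrArg (fun k => k x) hc

theorem singleton_mem_ph {X Y : Scheme.{u}} [IsAffine X] [IsAffine Y] (f : X ⟶ Y) [LocallyOfFinitePresentation f]
    (h : HasValLift (PreZeroHypercover.singleton.{u} f)) :
    Sieve.generate (Presieve.singleton f) ∈ HTop.phTopology Y := by
  have h1 : IsVCover (PreZeroHypercover.singleton.{u} f) :=
    (K344.VTfae.isVCover_singleton_iff f).2 ((K344.VTfae.isStandardV_singleton_iff_hasValLift f).2 h)
  have h2 : IsPhCover (PreZeroHypercover.singleton.{u} f) :=
    (Groth.Agent.S8976.result _ (fun _ => inferInstanceAs (LocallyOfFinitePresentation f))).2 h1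
  have h3 := Precoverage.generate_mem_toGrothendieck ((HTop.presieve₀_mem_phPrecoverage_iff _).2 h2)
  rwa [PreZeroHypercover.presieve₀_singleton] at h3

/-- A ring map with the valuation lifting property is a cofiltered limit of affine morphisms of finite presentation
with the valuation lifting property. -/
theorem exists_fp_limit {R R' : CommRingCat.{u}} (φ : R ⟶ R') (hφ : VCov φ.hom) :
    ∃ (I : Type u) (_ : SmallCategory I) (_ : IsCofiltered I) (D : I ⥤ Over (Spec R)) (c : Cone D)
      (_ : IsLimit c) (_ : Over.mk (Spec.map φ) ≅ c.pt), (∀ i, IsAffine (D.obj i).left) ∧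
        ∀ i, LocallyOfFinitePresentation (D.obj i).hom ∧ HasValLift (PreZeroHypercover.singleton.{u} (D.obj i).hom) := by
  obtain ⟨I, i1, i2, D, c, hc, e, h1, h2⟩ := K344.FpLimit.exists_limit (Spec.map φ)
  obtain ⟨hc'⟩ := K344.VLimit.nonempty_isLimit_over D c hc
  exact ⟨I, i1, i2, D, c, hc', e.symm, h1, fun i => ⟨h2 i, K344.VTfae.hasValLift_of_hom (P := Over.mk (Spec.map φ))
    (Q := D.obj i) (e.inv ≫ c.π.app i) (hasValLift φ hφ)⟩⟩

/-- A ring map with the valuation lifting property is a cofiltered limit of affine ph coverings. -/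
theorem exists_ph_limit {R R' : CommRingCat.{u}} (φ : R ⟶ R') (hφ : VCov φ.hom) :
    ∃ (I : Type u) (_ : SmallCategory I) (_ : IsCofiltered I) (D : I ⥤ Over (Spec R)) (c : Cone D)
      (_ : IsLimit c) (_ : Over.mk (Spec.map φ) ≅ c.pt), (∀ i, IsAffine (D.obj i).left) ∧
        ∀ i, Sieve.generate (Presieve.singleton (D.obj i).hom) ∈ HTop.phTopology (Spec R) := by
  obtain ⟨I, i1, i2, D, c, hc, e, h1, h2⟩ := exists_fp_limit φ hφ
  refine ⟨I, i1, i2, D, c, hc, e, h1, fun i => ?_⟩
  have := h1 i
  obtain ⟨h3, h4⟩ := h2 i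
  exact singleton_mem_ph (D.obj i).hom h4

end K855.VCovPh
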