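import Groth.Agent.EtDual.K855.LimCx
import Groth.Agent.EtDual.K855.NerveLim
import Groth.Agent.EtDual.K855.VCovPh
import Groth.Agent.EtDual.K855.RsFun
import Groth.Agent.EtDesc.K224.BigEx
import Groth.Agent.HTop.K343.GenPh
import Groth.Agent.HTop.K343.Pbc

/-!
# Descent along ring maps with the valuation lifting property

`J` an injective resolution of `a⁻¹ F` on the big ph site of `Y`, `F` torsion: the complex `J` satisfies descent along
the Čech nerve of every base change `V' ⟶ V` of `Spec R' ⟶ Spec R`, `V` quasi-compact and quasi-separated, `R ⟶ R'`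
with the valuation lifting property.
-/

set_option autoImplicit false
set_option backward.isDefEq.respectTransparency false
set_option backward.isDefEq.respectTransparency.types false

universe u

open CategoryTheory CategoryTheory.Limits Opposite ComplexShape AlgebraicGeometry

noncomputable section

namespace K855.VDesc

open K781.Desc K781.Cech K343.Basic K343.Topo K343.GenTop K224.Desc K224.BigEx
open K855.HomCmp K855.LimCx K855.NerveLim K855.RsFun K855.ColimDesc K617.VC

attribute [local instance] isGrothendieckAbelian_AbK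

variable {K : GrothendieckTopology Scheme.{u}} {Y : Scheme.{u}}

section cover

theorem presForget (I : Type u) [SmallCategory I] [IsFiltered I] : PreservesColimitsOfShape I (forget AddCommGrpCat.{u + 1}) := by
    have : PreservesFilteredColimitsOfSize.{u, u} (forget AddCommGrpCat.{u + 1}) :=
      preservesFilteredColimitsOfSize_shrink.{u, u + 1, u, u + 1} _
    exact PreservesFilteredColimitsOfSize.preserves_filtered_colimits _
theorem hasCol (I : Type u) [SmallCategory I] : HasColimitsOfShape I AddCommGrpCat.{u + 1} := by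
  have i1 : HasColimitsOfSize.{u, u} AddCommGrpCat.{u + 1} := hasColimitsOfSizeShrink.{u, u, u + 1, u + 1} _
  infer_instance
/-- Descent passes to small filtered colimits in cohomology. -/
theorem isDesc_small {I : Type u} [SmallCategory I] [IsFiltered I] {A : I ⥤ CochainComplex (Dp ⥤ AddCommGrpCat.{u + 1}) ℤ}
    {c : Cocone A} (h : CohColim c) (hA : ∀ j i, i < 0 → IsZero ((A.obj j).X i)) (hc : ∀ i, i < 0 → IsZero (c.pt.X i))
    (hd : ∀ j, IsDesc (A.obj j)) : IsDesc c.pt := by
  have := presForget I
  have := hasCol I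
  refine isDesc_of_cohColim (J := I) (A := A) (c := c) h 0 ?_ ?_ ?_
  · exact hA
  · exact hc
  · exact hd

/-- Descent along coverings. -/
theorem isDesc_nerve {X V : Over Y} (f : X ⟶ V) (hf : Sieve.generate (Presieve.singleton f.left) ∈ K V.left)
    {G : AbK K Y} (J : InjectiveResolution G) : IsDesc (rs (nerve f).rightOp (psh J)) := by
  have h1 : ∀ J' : AbK K Y, Injective J' → Ex ((Φ K (nerve f)).obj J') := fun J' hJ' =>
    ex_of_LH_over _ (LH_of_LHW (K290.Hyp.lhw_cech (WK K Y) (f := f) hf)) J' hJ'
  exact isDesc_cx (nerve f) h1 J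

end cover

section pull

variable {S : Scheme.{u}} {V : Over Y} (b : V.left ⟶ S)

/-- Base change to `V`. -/
def bcF : Over S ⥤ Over V := Over.pullback b ⋙ (Over.iteratedSliceEquiv V).inverse

instance : PreservesLimitsOfSize.{u, u} (bcF b) := by
  have h1 : PreservesLimitsOfSize.{u, u} (Over.pullback b) := (Over.mapPullbackAdj b).rightAdjoint_preservesLimits
  have h2 : PreservesLimitsOfSize.{u, u} (Over.iteratedSliceEquiv V).inverse := inferInstance
  exact comp_preservesLimits _ _

theorem bcF_obj_hom_left (P : Over S) : ((bcF b).obj P).hom.left = pullback.snd P.hom b := rfl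

theorem isPullback_bcF (P : Over S) : IsPullback (pullback.fst P.hom b) ((bcF b).obj P).hom.left P.hom b :=
  IsPullback.of_hasPullback P.hom b

/-- An object over `V` which is a base change. -/
def isoBcF {P : Over S} {X : Over Y} (p : X ⟶ V) {a : X.left ⟶ P.left} (sq : IsPullback a p.left P.hom b) :
    Over.mk p ≅ (bcF b).obj P :=
  Over.isoMk (Over.isoMk sq.isoPullback (by
    change sq.isoPullback.hom ≫ pullback.snd P.hom b ≫ V.hom = X.hom
    rw [IsPullback.isoPullback_hom_snd_assoc, Over.w])) (by
    ext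
    exact IsPullback.isoPullback_hom_snd sq)

end pull

section limit

variable {I : Type u} [SmallCategory I] [IsCofiltered I] {S : Scheme.{u}} (D : I ⥤ Over S) (c : Cone D)
  (hc : IsLimit c) (hD : ∀ i, IsAffineHom (D.obj i).hom)
  (hK : ∀ i, Sieve.generate (Presieve.singleton (D.obj i).hom) ∈ K S) {τ : Dpᵒᵖ ⥤ Over Y} (hτ : IsCech τ)
  (h₁ : CompactSpace (τ.obj (op .star)).left) (h₂ : QuasiSeparatedSpace (τ.obj (op .star)).left)
  (a : (τ.obj (op (ob 0))).left ⟶ c.pt.left) (b : (τ.obj (op .star)).left ⟶ S)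
  (sq : IsPullback a (τ.map (init (ob 0)).op).left c.pt.hom b)
  [Good K] [ContK K Y] {F : EtCoh.Ab Y} (J : InjectiveResolution ((aPullK K Y).obj F))
  (hv : ∀ (V : Over Y) (q : ℕ), 0 < q → IsZero (((uResK K V.hom).rightDerived q).obj ((aPullK K Y).obj F)))

/-- Affine morphisms over `Y`. -/
abbrev Aff (Y : Scheme.{u}) : MorphismProperty (Over Y) := MorphismProperty.inverseImage @IsAffineHom (Over.forget Y)

instance : (Aff Y).IsStableUnderBaseChange where
  of_isPullback {A B C D} f g f' g' h hg := by
    have h1 : IsPullback f'.left g'.left g.left f.left := h.map (Over.forget Y)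
    exact MorphismProperty.of_isPullback (P := @IsAffineHom) h1 hg

include hc hD hK hτ h₁ h₂ sq hv in
theorem isDesc_of_limit : IsDesc (rs τ.rightOp (psh J)) := by
  have : IsConnected I := IsCofiltered.isConnected I
  let V := τ.obj (op .star)
  let D' : I ⥤ Over V := D ⋙ bcF b
  let c' : Cone D' := (bcF b).mapCone c
  have hc' : IsLimit c' := isLimitOfPreserves (bcF b) hc
  let e : Over.mk (τ.map (init (ob 0)).op) ≅ c'.pt := isoBcF b (τ.map (init (ob 0)).op) sq
  let E : I ⥤ Dpᵒᵖ ⥤ Over Y := D' ⋙ nF V
  let p := pc D' c' e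
  let A : Iᵒᵖ ⥤ CochainComplex (Dp ⥤ AddCommGrpCat.{u + 1}) ℤ := E.op ⋙ rsF (psh J)
  let c'' : Cocone A := (rsF (psh J)).mapCocone (Cone.op ⟨τ, p⟩)
  -- geometry of the terms
  have haff0 : ∀ i, IsAffineHom (D'.obj i).hom.left := fun i =>
    MorphismProperty.of_isPullback (P := @IsAffineHom) (isPullback_bcF b (D.obj i)) (hD i)
  have haff1 : ∀ i (x : Dp), IsAffineHom ((E.obj i).map (init x).op).left := by
    intro i x
    refine map_init (Aff Y) (isCech_nerve (D'.obj i).hom) ?_ x
    rw [← nerveZero_hom]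
    have := haff0 i
    have h3 : IsIso (nerveZero (D'.obj i).hom).hom.left := inferInstance
    change IsAffineHom ((nerveZero (D'.obj i).hom).hom.left ≫ (D'.obj i).hom.left)
    infer_instance
  have haff2 : ∀ (x : Dp) {i j : I} (f : i ⟶ j), IsAffineHom ((E.map f).app (op x)).left := by
    intro x i j f
    have h3 : ((E.map f).app (op x)).left ≫ ((E.obj j).map (init x).op).left = ((E.obj i).map (init x).op).left := by
      have h4 := (E.map f).naturality (init x).op
      have h5 : (E.map f).app (op .star) = 𝟙 _ := nmap_star (D'.map f)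
      rw [h5] at h4
      exact (congrArg (fun k => k.left) (h4.symm.trans (Category.comp_id _)))
    have h6 := haff1 j x
    have h7 := haff1 i x
    rw [← h3] at h7
    exact IsAffineHom.of_comp _ ((E.obj j).map (init x).op).left
  have hq1 : ∀ (x : Dp) (i : I), CompactSpace ((E.obj i).obj (op x)).left := by
    intro x i
    have h6 := haff1 i x
    have h7 : CompactSpace ((E.obj i).obj (op .star)).left := h₁
    exact QuasiCompact.compactSpace_of_compactSpace ((E.obj i).map (init x).op).left
  have hq2 : ∀ (x : Dp) (i : I), QuasiSeparatedSpace ((E.obj i).obj (op x)).left := by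
    intro x i
    have h6 := haff1 i x
    have h7 : QuasiSeparatedSpace ((E.obj i).obj (op .star)).left := h₂
    exact quasiSeparatedSpace_of_quasiSeparated ((E.obj i).map (init x).op).left
  have hd : ∀ j, IsDesc (A.obj j) := by
    intro j
    refine isDesc_nerve (D'.obj j.unop).hom ?_ J
    exact generate_of_isPullback (isPullback_bcF b (D.obj j.unop)) (hK j.unop)
  have hh : CohColim c'' := by
    refine cohColim_of_homology ?_ ?_
    · intro n x ξ
      obtain ⟨hl⟩ := K855.NerveLim.isLimit hτ D' c' hc' e x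
      obtain ⟨j, η, hη⟩ := hsurj J hv (E ⋙ (evaluation Dpᵒᵖ (Over Y)).obj (op x)) (haff2 x) (hq1 x) (hq2 x) _ hl n ξ
      exact ⟨op j, η, hη⟩
    · intro j n x η hη
      obtain ⟨hl⟩ := K855.NerveLim.isLimit hτ D' c' hc' e x
      obtain ⟨k, f, hf⟩ := hinj J hv (E ⋙ (evaluation Dpᵒᵖ (Over Y)).obj (op x)) (haff2 x) (hq1 x) (hq2 x) _ hl
        j.unop n η hη
      exact ⟨op k, f.op, hf⟩
  have hz1 : ∀ (j : Iᵒᵖ) (i : ℤ), i < 0 → IsZero ((A.obj j).X i) := fun j i hi => isZero_rsF (psh J) _ i (isZero_psh J i hi)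
  have hz2 : ∀ i : ℤ, i < 0 → IsZero (c''.pt.X i) := fun i hi => isZero_rsF (psh J) (op τ) i (isZero_psh J i hi)
  have h3 : IsDesc c''.pt := isDesc_small hh hz1 hz2 hd
  exact h3

end limit

section vcov

open HTop

/-- Affine morphisms of finite presentation with the valuation lifting property are coverings. -/
def VFp (K : GrothendieckTopology Scheme.{u}) : Prop :=
  ∀ {X Z : Scheme.{u}} [IsAffine X] [IsAffine Z] (f : X ⟶ Z) [LocallyOfFinitePresentation f],
    HasValLift (PreZeroHypercover.singleton.{u} f) → Sieve.generate (Presieve.singleton f) ∈ K Z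

theorem vfp_ph : VFp HTop.phTopology.{u} := fun f _ h => K855.VCovPh.singleton_mem_ph f h

variable [Good K] [ContK K Y] {F : EtCoh.Ab Y} (J : InjectiveResolution ((aPullK K Y).obj F))
  (hv : ∀ (V : Over Y) (q : ℕ), 0 < q → IsZero (((uResK K V.hom).rightDerived q).obj ((aPullK K Y).obj F)))
  (hK : VFp K)

include hv hK in
/-- **V-descent**, general form. -/
theorem isDesc' {R R' : CommRingCat.{u}} (φ : R ⟶ R') (hφ : VCov φ.hom) {τ : Dpᵒᵖ ⥤ Over Y} (hτ : IsCech τ)
    (h₁ : CompactSpace (τ.obj (op .star)).left) (h₂ : QuasiSeparatedSpace (τ.obj (op .star)).left)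
    (a : (τ.obj (op (ob 0))).left ⟶ Spec R') (b : (τ.obj (op .star)).left ⟶ Spec R)
    (sq : IsPullback a (τ.map (init (ob 0)).op).left (Spec.map φ) b) : IsDesc (rs τ.rightOp (psh J)) := by
  obtain ⟨I, i1, i2, D, c, hc, e, hD, hD'⟩ := K855.VCovPh.exists_fp_limit φ hφ
  have sq' : IsPullback (a ≫ e.hom.left) (τ.map (init (ob 0)).op).left c.pt.hom b := by
    have h3 : IsPullback e.hom.left (Spec.map φ) c.pt.hom (𝟙 (Spec R)) :=
      IsPullback.of_horiz_isIso ⟨by rw [Over.w]; exact (Category.comp_id _).symm⟩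
    have h4 := sq.paste_horiz h3
    rwa [Category.comp_id] at h4
  refine isDesc_of_limit D c hc (fun i => ?_) (fun i => ?_) hτ h₁ h₂ (a ≫ e.hom.left) b sq' J hv
  · have := hD i
    infer_instance
  · have := hD i
    obtain ⟨h5, h6⟩ := hD' i
    exact hK (D.obj i).hom h6

include hv hK in
/-- **V-descent** along functors to schemes over `Y`, general form. -/
theorem ud' {C : Type*} [Category* C] (G : C ⥤ Over Y) [PreservesLimitsOfShape WalkingCospan G]
    (h₁ : ∀ X, CompactSpace (G.obj X).left) (h₂ : ∀ X, QuasiSeparatedSpace (G.obj X).left) {X T : C} (f : X ⟶ T)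
    {R R' : CommRingCat.{u}} (φ : R ⟶ R') (hφ : VCov φ.hom) (a : (G.obj X).left ⟶ Spec R')
    (b : (G.obj T).left ⟶ Spec R) (sq : IsPullback a (G.map f).left (Spec.map φ) b) :
    K933.UnivDesc.UD (rs G.op (psh J)) f := by
  intro τ hτ a' b' sq'
  have h3 : IsPullback (G.map a').left (G.map (τ.map (init (ob 0)).op)).left (G.map f).left (G.map b').left :=
    (sq'.map G).map (Over.forget Y)
  have h4 : IsDesc (rs (τ ⋙ G).rightOp (psh J)) :=
    isDesc' J hv hK φ hφ (τ := τ ⋙ G) (K933.UnivDesc.isCech_comp G hτ) (h₁ _) (h₂ _) _ _ (h3.paste_horiz sq)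
  exact h4

end vcov

section ph

variable {F : EtCoh.Ab Y} (hF : EtCoh.IsTorsion F) [ContK HTop.phTopology Y]

include hF in
/-- The small étale cohomology of a torsion sheaf is its cohomology on the big ph site. -/
theorem hv_ph (V : Over Y) (q : ℕ) (hq : 0 < q) :
    IsZero (((uResK HTop.phTopology V.hom).rightDerived q).obj ((aPullK HTop.phTopology Y).obj F)) :=
  K343.Main.isZero_rightDerived_uResK K343.Pbc.pbc HTop.phTopology V.hom F hF q hq

variable (J : InjectiveResolution ((aPullK HTop.phTopology Y).obj F))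

include hF in
/-- **V-descent**: a complex of injective abelian sheaves on the big ph site resolving a torsion étale sheaf satisfies
descent along base changes of `Spec R' ⟶ Spec R`, `R ⟶ R'` with the valuation lifting property. -/
theorem isDesc {R R' : CommRingCat.{u}} (φ : R ⟶ R') (hφ : VCov φ.hom) {τ : Dpᵒᵖ ⥤ Over Y} (hτ : IsCech τ)
    (h₁ : CompactSpace (τ.obj (op .star)).left) (h₂ : QuasiSeparatedSpace (τ.obj (op .star)).left)
    (a : (τ.obj (op (ob 0))).left ⟶ Spec R') (b : (τ.obj (op .star)).left ⟶ Spec R)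
    (sq : IsPullback a (τ.map (init (ob 0)).op).left (Spec.map φ) b) : IsDesc (rs τ.rightOp (psh J)) :=
  isDesc' J (hv_ph hF) vfp_ph φ hφ hτ h₁ h₂ a b sq

include hF in
/-- **V-descent** along functors to schemes over `Y`. -/
theorem ud {C : Type*} [Category* C] (G : C ⥤ Over Y) [PreservesLimitsOfShape WalkingCospan G]
    (h₁ : ∀ X, CompactSpace (G.obj X).left) (h₂ : ∀ X, QuasiSeparatedSpace (G.obj X).left) {X T : C} (f : X ⟶ T)
    {R R' : CommRingCat.{u}} (φ : R ⟶ R') (hφ : VCov φ.hom) (a : (G.obj X).left ⟶ Spec R')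
    (b : (G.obj T).left ⟶ Spec R) (sq : IsPullback a (G.map f).left (Spec.map φ) b) :
    K933.UnivDesc.UD (rs G.op (psh J)) f :=
  ud' J (hv_ph hF) vfp_ph G h₁ h₂ f φ hφ a b sq

end ph

end K855.VDesc
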