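import Groth.Agent.EtDual.K855.HomCmp
import Groth.Agent.EtDual.K617.TauDesc
import Groth.Agent.EtDual.K933.Main
import Groth.Agent.EtDual.K152.Fib
import Groth.Agent.EtCoh.K141.HMain
import Groth.Agent.Cohder.HomSeqTau1

/-!
# Henselian pairs and the complex with supports

* `qMap_psh`: a cohomological isomorphism induces a quasi-isomorphism on the complexes `psh J`;
* `qMap_KF`: the same for the complex with supports;
* `qMap_hens`: `(C, w)`, `(C₁, w)` henselian, `C/wⁿ = C₁/wⁿ`, `w ∈ rad (g)`: `KF (C, g) ⟶ KF (C₁, g)` is a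
  quasi-isomorphism.
-/

set_option autoImplicit false
universe u
open CategoryTheory CategoryTheory.Limits AlgebraicGeometry Opposite Abelian ComplexShape
open scoped Groth.Agent.Etcore.EtInst

noncomputable section

namespace K855.HensQ

open Groth.Agent.Etrest Groth.Agent.Etrest.BigEtSite K343.Basic K343.Res
open Groth.Agent.Etcore.HpullCalc Groth.Agent.Etcore.EtInst Groth.Agent.Etcore.AbHomology
open Groth.Agent Groth.Agent.Sga4h.UlaGood K855.NatCmp K855.HomCmp K617.UDQuasi K933.UnivDesc K933.PerfCat K933.Main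
  K152.Fib K617.TauDesc K781.Desc

attribute [local instance] isGrothendieckAbelian_AbK

section general

variable {K : GrothendieckTopology Scheme.{u}} {Y : Scheme.{u}}
variable [Good K] [ContK K Y] {F : EtCoh.Ab Y} (J : InjectiveResolution ((aPullK K Y).obj F))
  (hv : ∀ (V : Over Y) (q : ℕ), 0 < q → IsZero (((uResK K V.hom).rightDerived q).obj ((aPullK K Y).obj F)))

include hv in
/-- A cohomological isomorphism induces a quasi-isomorphism. -/
theorem qMap_psh {V V' : Over Y} (f : V' ⟶ V) (h : HI f.left ((EtCoh.pull V.hom).obj F)) : QMap (psh J) f := by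
  have key : ∀ i : ℤ, IsIso (HomologicalComplex.homologyMap (evM (psh J) f) i) := by
    intro i
    rcases lt_or_ge i 0 with hi | hi
    · have h1 := isZero_homology_neg J V i hi
      have h2 := isZero_homology_neg J V' i hi
      exact ⟨0, h1.eq_of_src _ _, h2.eq_of_src _ _⟩
    · obtain ⟨n, rfl⟩ := Int.eq_ofNat_of_zero_le hi
      have hb : Function.Bijective (hpVia f.left V.hom V'.hom (Over.w f) F n) :=
        (bijective_hpVia_iff f.left V.hom V'.hom (Over.w f) F n).2 (h n)
      have h3 : ⇑(HomologicalComplex.homologyMap (evM (psh J) f) (n : ℤ)) =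
          (hcmp J hv V' n).symm ∘ (hpVia f.left V.hom V'.hom (Over.w f) F n) ∘ (hcmp J hv V n) := by
        funext ξ
        have h4 := hcmp_res J hv f n ξ
        change _ = (hcmp J hv V' n).symm (hpVia f.left V.hom V'.hom (Over.w f) F n (hcmp J hv V n ξ))
        rw [h4, AddEquiv.symm_apply_apply]
      have h5 : Function.Bijective (HomologicalComplex.homologyMap (evM (psh J) f) (n : ℤ)) := by
        rw [h3]
        exact (hcmp J hv V' n).symm.bijective.comp (hb.comp (hcmp J hv V n).bijective)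
      exact (ConcreteCategory.isIso_iff_bijective _).2 h5
  have h1 : QuasiIso (evM (psh J) f) := by
    rw [quasiIso_iff]
    intro i
    rw [quasiIsoAt_iff_isIso_homologyMap]
    exact key i
  exact h1

/-- Quasi-isomorphisms for the complex with supports. -/
theorem qMap_KF {Y : Scheme.{u}} {Y₀ : Scheme.{u}} (e : Y₀ ⟶ Y)
    {A : CochainComplex ((Over Y)ᵒᵖ ⥤ AddCommGrpCat.{u + 1}) ℤ} (hS : (SK e A).ShortExact) {V V' : Over Y} (f : V' ⟶ V)
    (h1 : QMap A f) (h2 : QMap A ((E e).map f)) : QMap (KF e A) f := by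
  let φ : ((SK e A).map (((evaluation (Over Y)ᵒᵖ AddCommGrpCat.{u + 1}).obj (op V)).mapHomologicalComplex (up ℤ))) ⟶
      ((SK e A).map (((evaluation (Over Y)ᵒᵖ AddCommGrpCat.{u + 1}).obj (op V')).mapHomologicalComplex (up ℤ))) :=
    { τ₁ := (NatTrans.mapHomologicalComplex ((evaluation (Over Y)ᵒᵖ AddCommGrpCat.{u + 1}).map f.op) (up ℤ)).app _
      τ₂ := (NatTrans.mapHomologicalComplex ((evaluation (Over Y)ᵒᵖ AddCommGrpCat.{u + 1}).map f.op) (up ℤ)).app _
      τ₃ := (NatTrans.mapHomologicalComplex ((evaluation (Over Y)ᵒᵖ AddCommGrpCat.{u + 1}).map f.op) (up ℤ)).app _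
      comm₁₂ := ((NatTrans.mapHomologicalComplex ((evaluation (Over Y)ᵒᵖ AddCommGrpCat.{u + 1}).map f.op)
        (up ℤ)).naturality _).symm
      comm₂₃ := ((NatTrans.mapHomologicalComplex ((evaluation (Over Y)ᵒᵖ AddCommGrpCat.{u + 1}).map f.op)
        (up ℤ)).naturality _).symm }
  exact Groth.Agent.Cohder.HomSeqTau1.quasiIso_τ₁ φ (shortExact_ev hS V) (shortExact_ev hS V') h1 h2

end general

/-- Transport of `K141.HEq` along an open immersion. -/
theorem hi_of_hEq {S T W X' P' : Scheme.{u}} (g : T ⟶ S) (j : X' ⟶ S) [IsOpenImmersion j] (h : K141.HEq g j.opensRange)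
    {p : P' ⟶ X'} {r : P' ⟶ T} (sq : IsPullback p r j g) (k : S ⟶ W) (l : X' ⟶ W) (hl : j ≫ k = l) (F : EtCoh.Ab W)
    (hF : EtCoh.IsTorsion F) : HI p ((EtCoh.pull l).obj F) := by
  let a : X' ≅ (j.opensRange : Scheme.{u}) := j.isoOpensRange
  have ha : a.hom ≫ j.opensRange.ι = j := j.isoOpensRange_hom_ι
  have h1 : HI (g ∣_ j.opensRange) ((EtCoh.pull (j.opensRange.ι ≫ k)).obj F) :=
    h _ (Etcore.Torsion.isTorsion_pull _ F hF)
  have h2 : Good j.opensRange.ι ((EtCoh.pull (j.opensRange.ι ≫ k)).obj F) g :=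
    (good_iff (isPullback_morphismRestrict g j.opensRange)).2 h1
  have h3 : IsPullback (p ≫ a.hom) r j.opensRange.ι g := by
    refine IsPullback.of_iso sq (Iso.refl _) a (Iso.refl _) (Iso.refl _) ?_ ?_ ?_ ?_
    · simp
    · simp
    · simp [ha]
    · simp
  have h4 := (good_iff h3).1 h2
  have h5 : HI p ((EtCoh.pull a.hom).obj ((EtCoh.pull (j.opensRange.ι ≫ k)).obj F)) :=
    HI.of_comp_left rfl (HI.of_isIso a.hom _) h4
  exact (HI.pull_pull (by rw [← hl, ← Category.assoc, ha])).1 h5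

section hens

variable {K : GrothendieckTopology Scheme.{u}} {Y : Scheme.{u}}
variable [Good K] [ContK K Y] {F : EtCoh.Ab Y} (hF : EtCoh.IsTorsion F) (J : InjectiveResolution ((aPullK K Y).obj F))
  (hv : ∀ (V : Over Y) (q : ℕ), 0 < q → IsZero (((uResK K V.hom).rightDerived q).obj ((aPullK K Y).obj F)))
  {Y₀ : Scheme.{u}} (e : Y₀ ⟶ Y) [IsOpenImmersion e]

theorem cong_of_ce {C C₁ : Type u} [CommRing C] [CommRing C₁] {φ : C →+* C₁} {w : C} (h : CE w φ) : K141.Cong φ w where
  surj n b := by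
    obtain ⟨x, y, hy⟩ := h.1 n b
    exact ⟨x, y, by rw [← hy]; ring⟩
  inj n a b hab := h.2 n a ⟨b, hab⟩

theorem isPullback_E_map {Y₀ Y : Scheme.{u}} (e : Y₀ ⟶ Y) {V V' : Over Y} (f : V' ⟶ V) :
    IsPullback ((E e).map f).left (pullback.fst V'.hom e) (pullback.fst V.hom e) f.left := by
  have h1 : IsPullback (pullback.snd V'.hom e) (pullback.fst V'.hom e) e (f.left ≫ V.hom) := by
    rw [Over.w f]
    exact (IsPullback.of_hasPullback V'.hom e).flip
  have h2 : ((E e).map f).left ≫ pullback.snd V.hom e = pullback.snd V'.hom e := by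
    exact pullback.lift_snd _ _ _
  have h3 : ((E e).map f).left ≫ pullback.fst V.hom e = pullback.fst V'.hom e ≫ f.left := by
    exact pullback.lift_fst _ _ _
  rw [← h2] at h1
  exact IsPullback.of_right h1 h3 (IsPullback.of_hasPullback V.hom e).flip

include hF hv in
/-- **Henselian pairs.** -/
theorem qMap_hens {C C₁ : CommRingCat.{u}} (φ : C ⟶ C₁) (w : C)
    (hC : HenselianRing C (Ideal.span {w})) (hC₁ : HenselianRing C₁ (Ideal.span {φ.hom w})) (hφ : CE w φ.hom)
    (k : Spec C ⟶ Y) (k' : Spec C₁ ⟶ Y) (hw : ∀ x : Spec C, k x ∉ Set.range e → w ∈ x.asIdeal)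
    (f : Over.mk k' ⟶ Over.mk k) (hf : f.left = Spec.map φ) : QMap (KF e (psh J)) f := by
  have hS : (SK e (psh J)).ShortExact := shortExact_SK e J.cochainComplex fun i => inferInstance
  refine qMap_KF e hS f (qMap_psh J hv f ?_) (qMap_psh J hv _ ?_)
  · have h1 : K141.HEq (Spec.map φ) (Scheme.Hom.opensRange (𝟙 (Spec C))) :=
      K141.HEq.principal K141.pstat φ.hom w hC hC₁ (cong_of_ce hφ) _ fun x hx => (hx (by simp)).elim
    rw [hf]
    exact hi_of_hEq (Spec.map φ) (𝟙 (Spec C)) h1 (r := 𝟙 _) (IsPullback.of_vert_isIso ⟨by simp⟩) k k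
      (Category.id_comp k) F hF
  · have h1 : K141.HEq (Spec.map φ) (Scheme.Hom.opensRange (pullback.fst k e)) :=
      K141.HEq.principal K141.pstat φ.hom w hC hC₁ (cong_of_ce hφ) _ fun x hx => hw x fun hx' => hx (by
        have h2 : x ∈ Set.range (pullback.fst k e) := by
          rw [Scheme.Pullback.range_fst]
          exact hx'
        exact h2)
    have h2 := isPullback_E_map e f
    rw [hf] at h2
    exact hi_of_hEq (Spec.map φ) (pullback.fst k e) h1 h2 k ((E e).obj (Over.mk k)).hom pullback.condition F hF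

end hens

section pt

variable {K : GrothendieckTopology Scheme.{u}} {d : ℕ}
variable [Good K] [ContK K (Spec (Pd.{u} d))] {F : EtCoh.Ab (Spec (Pd.{u} d))} (hF : EtCoh.IsTorsion F)
  (J : InjectiveResolution ((aPullK K (Spec (Pd.{u} d))).obj F))
  (hv : ∀ (V : Over (Spec (Pd.{u} d))) (q : ℕ), 0 < q →
    IsZero (((uResK K V.hom).rightDerived q).obj ((aPullK K (Spec (Pd.{u} d))).obj F)))
  {Y₀ : Scheme.{u}} (e : Y₀ ⟶ Spec (Pd.{u} d)) [IsOpenImmersion e]
  (he : Set.range e = (PrimeSpectrum.zeroLocus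
    (Set.range (MvPolynomial.X : Fin d → MvPolynomial (Fin d) (ULift.{u} ℤ))))ᶜ)

omit [IsOpenImmersion e] in
include he in
theorem mem_of_notMem_range {C : Type u} [CommRing C] (g : Fin d → C) (w : C)
    (hw : w ∈ (Ideal.span (Set.range g)).radical) (x : Spec (CommRingCat.of C))
    (hx : Spec.map (CommRingCat.ofHom (evP g)) x ∉ Set.range e) : w ∈ x.asIdeal := by
  have hx : Spec.map (CommRingCat.ofHom (evP g)) x ∈ PrimeSpectrum.zeroLocus
      (Set.range (MvPolynomial.X : Fin d → MvPolynomial (Fin d) (ULift.{u} ℤ))) := by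
    by_contra h
    exact hx (he.symm ▸ h)
  have h1 : Ideal.span (Set.range g) ≤ x.asIdeal := by
    rw [Ideal.span_le]
    rintro _ ⟨i, rfl⟩
    have h2 : MvPolynomial.X i ∈ (Spec.map (CommRingCat.ofHom (evP g)) x).asIdeal := hx ⟨i, rfl⟩
    have h3 : evP g (MvPolynomial.X i) ∈ x.asIdeal := h2
    rwa [evP_X] at h3
  exact (Ideal.IsPrime.radical_le_iff x.isPrime).2 h1 hw

include hF hv he in
/-- **Henselian pairs**, for the points of `Spec ℤ[x₁, …, x_d]`. -/
theorem qMap_ptS {C C₁ : Type u} [CommRing C] [CommRing C₁] (φ : C →+* C₁) (w : C)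
    (hC : HenselianRing C (Ideal.span {w})) (hC₁ : HenselianRing C₁ (Ideal.span {φ w})) (hφ : CE w φ)
    (g : Fin d → C) (g' : Fin d → C₁) (h : ∀ i, φ (g i) = g' i) (hw : w ∈ (Ideal.span (Set.range g)).radical) :
    QMap (KF e (psh J)) ((spU (Pd.{u} d)).map (ptUMap φ h).op : ptS C₁ g' ⟶ ptS C g) :=
  qMap_hens hF J hv e (CommRingCat.ofHom φ) w hC hC₁ hφ _ _ (fun x hx => mem_of_notMem_range e he g w hw x hx) _ rfl

include hF hv he in
/-- **Henselian pairs**, for the category of algebras over a ring. -/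
theorem qMap_ptO {R₀ : CommRingCat.{u}} (x : Fin d → R₀) (a : R₀) (ha : a ∈ (Ideal.span (Set.range x)).radical)
    ⦃X Y : (Under R₀)ᵒᵖ⦄ (f : X ⟶ Y) (hf : CE (el a Y) f.unop.right.hom)
    (hY : HenselianRing Y.unop.right (Ideal.span {el a Y})) (hX : HenselianRing X.unop.right (Ideal.span {el a X})) :
    QMap (rs (ptO x).op (KF e (psh J))) f := by
  have h1 : el a Y ∈ (Ideal.span (Set.range fun i => Y.unop.hom.hom (x i))).radical := by
    have h2 := Ideal.mem_map_of_mem Y.unop.hom.hom ha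
    have h3 := Ideal.map_radical_le Y.unop.hom.hom h2
    rw [Ideal.map_span, ← Set.range_comp] at h3
    exact h3
  have hX' : HenselianRing X.unop.right (Ideal.span {f.unop.right.hom (el a Y)}) := by
    rw [el_map]
    exact hX
  have h4 := qMap_hens hF J hv e f.unop.right (el a Y) hY hX' hf ((ptO x).obj Y).hom ((ptO x).obj X).hom
    (fun y hy => mem_of_notMem_range e he _ (el a Y) h1 y hy) ((ptO x).map f) rfl
  exact h4

end pt

end K855.HensQ
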