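import Groth.Agent.Etcore.ExtMap
import Mathlib.Algebra.Homology.DerivedCategory.Ext.EnoughInjectives
import Mathlib.Algebra.Homology.ShortComplex.HomologicalComplex

/-!
# `Ext` computed by an injective resolution, naturally in exact functors

`K` a complex in degrees `≥ 0` with injective terms, exact in positive degrees.  `cls A K n` is an additive
map from the cocycles `A ⟶ K^n` to `Ext^n(A, Z^0 K)`; it is surjective, and its kernel is the set of coboundaries.
`extMap_cls`: compatibility with exact functors.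
-/

set_option autoImplicit false

universe w w' v v' u u'

open CategoryTheory CategoryTheory.Limits CategoryTheory.Abelian

noncomputable section

namespace K855.Ladder

section

variable {C : Type u} [Category.{v} C] [Abelian C] (K : CochainComplex C ℕ)

theorem iCycles_toCycles (q : ℕ) : K.iCycles q ≫ K.toCycles q (q + 1) = 0 := by
  rw [← cancel_mono (K.iCycles (q + 1)), Category.assoc, K.toCycles_i, K.iCycles_d, zero_comp]

/-- `0 ⟶ Z^q ⟶ K^q ⟶ Z^{q+1} ⟶ 0`. -/
abbrev S (q : ℕ) : ShortComplex C := ShortComplex.mk (K.iCycles q) (K.toCycles q (q + 1)) (iCycles_toCycles K q)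

theorem epi_toCycles (q : ℕ) (hK : K.ExactAt (q + 1)) : Epi (K.toCycles q (q + 1)) := by
  have hex : (ShortComplex.mk (K.toCycles q (q + 1)) (K.homologyπ (q + 1))
      (K.toCycles_comp_homologyπ q (q + 1))).Exact :=
    ShortComplex.exact_of_g_is_cokernel _ (K.homologyIsCokernel q (q + 1) (by simp))
  refine hex.epi_f ?_
  exact (K.exactAt_iff_isZero_homology _).1 hK |>.eq_of_tgt _ _

theorem exact_iCycles (q : ℕ) : (ShortComplex.mk (K.iCycles q) (K.d q (q + 1)) (K.iCycles_d q (q + 1))).Exact :=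
  ShortComplex.exact_of_f_is_kernel _ (K.cyclesIsKernel q (q + 1) (by simp))

theorem shortExact_S (q : ℕ) (hK : K.ExactAt (q + 1)) : (S K q).ShortExact where
  exact := by
    let φ : S K q ⟶ ShortComplex.mk (K.iCycles q) (K.d q (q + 1)) (K.iCycles_d q (q + 1)) :=
      { τ₁ := 𝟙 _
        τ₂ := 𝟙 _
        τ₃ := K.iCycles (q + 1)
        comm₁₂ := by simp
        comm₂₃ := by simp }
    have h1 : Epi φ.τ₁ := inferInstanceAs (Epi (𝟙 _))
    have h2 : IsIso φ.τ₂ := inferInstanceAs (IsIso (𝟙 _))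
    have h3 : Mono φ.τ₃ := inferInstanceAs (Mono (K.iCycles (q + 1)))
    exact (ShortComplex.exact_iff_of_epi_of_isIso_of_mono φ).2 (exact_iCycles K q)
  mono_f := inferInstanceAs (Mono (K.iCycles q))
  epi_g := epi_toCycles K q hK

variable [HasExt.{w} C] (hK : ∀ q, K.ExactAt (q + 1))

/-- The iterated connecting map `Ext^p(A, Z^q) → Ext^{p+q}(A, Z^0)`. -/
def clZ (A : C) : (q p n : ℕ) → p + q = n → (Ext.{w} A (K.cycles q) p →+ Ext.{w} A (K.cycles 0) n)
  | 0, p, n, h => h ▸ AddMonoidHom.id _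
  | q + 1, p, n, h => (clZ A q (p + 1) n (by lia)).comp ((shortExact_S K q (hK q)).extClass.postcomp A rfl)

theorem clZ_zero (A : C) (n : ℕ) (x : Ext.{w} A (K.cycles 0) n) : clZ K hK A 0 n n rfl x = x := rfl

theorem clZ_succ (A : C) (q p n : ℕ) (h : p + (q + 1) = n) (x : Ext.{w} A (K.cycles (q + 1)) p) :
    clZ K hK A (q + 1) p n h x =
      clZ K hK A q (p + 1) n (by lia) (x.comp (shortExact_S K q (hK q)).extClass rfl) := rfl

variable [∀ q, Injective (K.X q)]

theorem clZ_surjective (A : C) (q p n : ℕ) (h : p + q = n) : Function.Surjective (clZ K hK A q p n h) := by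
  induction q generalizing p with
  | zero =>
    obtain rfl : p = n := h
    exact fun y => ⟨y, clZ_zero K hK A p y⟩
  | succ q ih =>
    intro y
    obtain ⟨z, rfl⟩ := ih (p + 1) (by lia) y
    have hz : z.comp (Ext.mk₀ (K.iCycles q)) (add_zero (p + 1)) = 0 := Ext.eq_zero_of_injective (I := K.X q) _
    obtain ⟨x, rfl⟩ := Ext.covariant_sequence_exact₁ A (shortExact_S K q (hK q)) z hz rfl
    exact ⟨x, clZ_succ K hK A q p n h x⟩

theorem clZ_injective (A : C) (q p n : ℕ) (h : (p + 1) + q = n) : Function.Injective (clZ K hK A q (p + 1) n h) := by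
  induction q generalizing p with
  | zero =>
    obtain rfl : p + 1 = n := h
    exact fun x y hxy => hxy
  | succ q ih =>
    rw [injective_iff_map_eq_zero]
    intro x hx
    rw [clZ_succ] at hx
    have h1 := (injective_iff_map_eq_zero _).1 (ih (p + 1) (by lia)) _ hx
    obtain ⟨y, rfl⟩ := Ext.covariant_sequence_exact₃ A (shortExact_S K q (hK q)) x rfl h1
    have hy : y = 0 := Ext.eq_zero_of_injective (I := K.X q) y
    subst hy
    have h2 : (0 : Ext.{w} A (K.X q) (p + 1)).comp (Ext.mk₀ (K.toCycles q (q + 1))) (add_zero (p + 1)) = 0 :=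
      by simp
    exact h2

/-- The class of a cocycle. -/
def cls {A : C} (n : ℕ) (f : A ⟶ K.X n) (hf : f ≫ K.d n (n + 1) = 0) : Ext.{w} A (K.cycles 0) n :=
  clZ K hK A n 0 n (zero_add n) (Ext.mk₀ (K.liftCycles f (n + 1) (by simp) hf))

omit [∀ q, Injective (K.X q)] in
theorem cls_add {A : C} (n : ℕ) (f g : A ⟶ K.X n) (hf : f ≫ K.d n (n + 1) = 0) (hg : g ≫ K.d n (n + 1) = 0)
    (hfg : (f + g) ≫ K.d n (n + 1) = 0) : cls K hK n (f + g) hfg = cls K hK n f hf + cls K hK n g hg := by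
  rw [cls, cls, cls, ← map_add, ← Ext.mk₀_add]
  congr 2
  rw [← cancel_mono (K.iCycles n), Preadditive.add_comp]
  simp

theorem cls_surjective {A : C} (n : ℕ) (y : Ext.{w} A (K.cycles 0) n) :
    ∃ (f : A ⟶ K.X n) (hf : f ≫ K.d n (n + 1) = 0), cls K hK n f hf = y := by
  obtain ⟨z, rfl⟩ := clZ_surjective K hK A n 0 n (zero_add n) y
  obtain ⟨g, rfl⟩ := Ext.homEquiv₀.symm.surjective z
  refine ⟨g ≫ K.iCycles n, by rw [Category.assoc, K.iCycles_d, comp_zero], ?_⟩
  rw [cls]
  congr 1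
  change Ext.mk₀ _ = Ext.mk₀ g
  congr 1
  rw [← cancel_mono (K.iCycles n)]
  simp

theorem cls_eq_zero_iff_succ {A : C} (n : ℕ) (f : A ⟶ K.X (n + 1)) (hf : f ≫ K.d (n + 1) (n + 1 + 1) = 0) :
    cls K hK (n + 1) f hf = 0 ↔ ∃ g : A ⟶ K.X n, g ≫ K.d n (n + 1) = f := by
  rw [cls, clZ_succ]
  constructor
  · intro h
    have h1 := (injective_iff_map_eq_zero _).1 (clZ_injective K hK A n 0 (n + 1) (by lia)) _ h
    obtain ⟨y, hy⟩ := Ext.covariant_sequence_exact₃ A (shortExact_S K n (hK n)) _ rfl h1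
    obtain ⟨g, rfl⟩ := Ext.homEquiv₀.symm.surjective y
    refine ⟨g, ?_⟩
    have h2 : (Ext.mk₀ g).comp (Ext.mk₀ (S K n).g) (add_zero 0) =
      Ext.mk₀ (K.liftCycles f (n + 1 + 1) (by simp) hf) := hy
    rw [Ext.mk₀_comp_mk₀] at h2
    have h3 : g ≫ K.toCycles n (n + 1) = K.liftCycles f (n + 1 + 1) (by simp) hf :=
      Ext.homEquiv₀.symm.injective h2
    have h4 := congrArg (fun t => t ≫ K.iCycles (n + 1)) h3
    dsimp only at h4
    rwa [Category.assoc, K.toCycles_i, K.liftCycles_i] at h4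
  · rintro ⟨g, rfl⟩
    have h1 : K.liftCycles (g ≫ K.d n (n + 1)) (n + 1 + 1) (by simp) hf = g ≫ K.toCycles n (n + 1) := by
      rw [← cancel_mono (K.iCycles (n + 1)), K.liftCycles_i, Category.assoc, K.toCycles_i]
    have h2 : (Ext.mk₀ (K.toCycles n (n + 1))).comp (shortExact_S K n (hK n)).extClass (zero_add 1) = 0 :=
      (shortExact_S K n (hK n)).comp_extClass
    rw [h1, ← Ext.mk₀_comp_mk₀, Ext.comp_assoc_of_second_deg_zero, h2, Ext.comp_zero, map_zero]

omit [∀ q, Injective (K.X q)] in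
theorem cls_zero_eq_zero_iff {A : C} (f : A ⟶ K.X 0) (hf : f ≫ K.d 0 (0 + 1) = 0) :
    cls K hK 0 f hf = 0 ↔ f = 0 := by
  rw [cls, clZ_zero]
  constructor
  · intro h
    have h1 : K.liftCycles f (0 + 1) (by simp) hf = 0 := (Ext.mk₀_eq_zero_iff _).1 h
    have h2 := congrArg (fun t => t ≫ K.iCycles 0) h1
    simpa using h2
  · rintro rfl
    rw [Ext.mk₀_eq_zero_iff, ← cancel_mono (K.iCycles 0)]
    simp

omit [∀ q, Injective (K.X q)] in
/-- Naturality in the first variable. -/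
theorem mk₀_comp_clZ {A A' : C} (a : A' ⟶ A) (q p n : ℕ) (h : p + q = n) (x : Ext.{w} A (K.cycles q) p) :
    (Ext.mk₀ a).comp (clZ K hK A q p n h x) (zero_add n) =
      clZ K hK A' q p n h ((Ext.mk₀ a).comp x (zero_add p)) := by
  induction q generalizing p with
  | zero =>
    obtain rfl : p = n := h
    rfl
  | succ q ih =>
    rw [clZ_succ, clZ_succ, ih]
    congr 1
    exact (Ext.comp_assoc _ _ _ _ _ (by lia)).symm

end

section functor

variable {C : Type u} [Category.{v} C] [Abelian C] [HasExt.{w} C] {D : Type u'} [Category.{v'} D] [Abelian D]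
  [HasExt.{w'} D] (F : C ⥤ D) [F.Additive] [PreservesFiniteLimits F] [PreservesFiniteColimits F]
  (K : CochainComplex C ℕ) (hK : ∀ q, K.ExactAt (q + 1)) (L : CochainComplex D ℕ) (hL : ∀ q, L.ExactAt (q + 1))
  (φ : ∀ q, F.obj (K.X q) ⟶ L.X q) (hφ : ∀ q, φ q ≫ L.d q (q + 1) = F.map (K.d q (q + 1)) ≫ φ (q + 1))

omit [HasExt.{w} C] [HasExt.{w'} D] [PreservesFiniteLimits F] [PreservesFiniteColimits F] in
include hφ in
theorem zMap_aux (q : ℕ) : (F.map (K.iCycles q) ≫ φ q) ≫ L.d q (q + 1) = 0 := by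
  rw [Category.assoc, hφ, ← Category.assoc, ← F.map_comp, K.iCycles_d, F.map_zero, zero_comp]

/-- The induced map on cocycles. -/
def zMap (q : ℕ) : F.obj (K.cycles q) ⟶ L.cycles q :=
  L.liftCycles (F.map (K.iCycles q) ≫ φ q) (q + 1) (by simp) (zMap_aux F K L φ hφ q)

omit [HasExt.{w} C] [HasExt.{w'} D] [PreservesFiniteLimits F] [PreservesFiniteColimits F] in
@[reassoc]
theorem zMap_i (q : ℕ) : zMap F K L φ hφ q ≫ L.iCycles q = F.map (K.iCycles q) ≫ φ q := by
  rw [zMap, L.liftCycles_i]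

/-- The map of short complexes. -/
def sMap (q : ℕ) : (S K q).map F ⟶ S L q where
  τ₁ := zMap F K L φ hφ q
  τ₂ := φ q
  τ₃ := zMap F K L φ hφ (q + 1)
  comm₁₂ := zMap_i F K L φ hφ q
  comm₂₃ := by
    have h1 : φ q ≫ L.toCycles q (q + 1) = F.map (K.toCycles q (q + 1)) ≫ zMap F K L φ hφ (q + 1) := by
      rw [← cancel_mono (L.iCycles (q + 1)), Category.assoc, Category.assoc, L.toCycles_i, zMap_i, hφ,
        ← Category.assoc, ← F.map_comp, K.toCycles_i]
    exact h1

variable {A : C} {A' : D} (a : A' ⟶ F.obj A)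

theorem extMap_clZ (q p n : ℕ) (h : p + q = n) (x : Ext.{w} A (K.cycles q) p) :
    (Groth.Agent.Etcore.ExtMap.extMap F a (K.cycles 0) n (clZ K hK A q p n h x)).comp
        (Ext.mk₀ (zMap F K L φ hφ 0)) (add_zero n) =
      clZ L hL A' q p n h ((Groth.Agent.Etcore.ExtMap.extMap F a (K.cycles q) p x).comp
        (Ext.mk₀ (zMap F K L φ hφ q)) (add_zero p)) := by
  induction q generalizing p with
  | zero =>
    obtain rfl : p = n := h
    rfl
  | succ q ih =>
    rw [clZ_succ, clZ_succ, ih]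
    congr 1
    have h1 : (Groth.Agent.Etcore.ExtMap.extMap F a (K.cycles q) (p + 1) (x.comp (shortExact_S K q (hK q)).extClass rfl)) =
      (Groth.Agent.Etcore.ExtMap.extMap F a (K.cycles (q + 1)) p x).comp
        ((shortExact_S K q (hK q)).map_of_exact F).extClass rfl :=
      Groth.Agent.Etcore.ExtMap.extMap_extClass F a (shortExact_S K q (hK q)) rfl x
    have h2 : ((shortExact_S K q (hK q)).map_of_exact F).extClass.comp (Ext.mk₀ (zMap F K L φ hφ q)) (add_zero 1) =
      (Ext.mk₀ (zMap F K L φ hφ (q + 1))).comp (shortExact_S L q (hL q)).extClass (zero_add 1) :=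
      (ShortComplex.ShortExact.extClass_naturality ((shortExact_S K q (hK q)).map_of_exact F)
      (shortExact_S L q (hL q)) (sMap F K L φ hφ q))
    rw [h1]
    have h3 := Ext.comp_assoc_of_third_deg_zero (Groth.Agent.Etcore.ExtMap.extMap F a (K.cycles (q + 1)) p x)
      ((shortExact_S K q (hK q)).map_of_exact F).extClass (Ext.mk₀ (zMap F K L φ hφ q)) (rfl : p + 1 = p + 1)
    have h4 := Ext.comp_assoc_of_second_deg_zero (Groth.Agent.Etcore.ExtMap.extMap F a (K.cycles (q + 1)) p x)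
      (Ext.mk₀ (zMap F K L φ hφ (q + 1))) (shortExact_S L q (hL q)).extClass (rfl : p + 1 = p + 1)
    refine h3.trans (Eq.trans ?_ h4.symm)
    exact congrArg (fun t => (Groth.Agent.Etcore.ExtMap.extMap F a (K.cycles (q + 1)) p x).comp t rfl) h2

/-- **Naturality of `cls` for exact functors.** -/
theorem extMap_cls (n : ℕ) (f : A ⟶ K.X n) (hf : f ≫ K.d n (n + 1) = 0)
    (hf' : (a ≫ F.map f ≫ φ n) ≫ L.d n (n + 1) = 0) :
    (Groth.Agent.Etcore.ExtMap.extMap F a (K.cycles 0) n (cls K hK n f hf)).comp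
        (Ext.mk₀ (zMap F K L φ hφ 0)) (add_zero n) = cls L hL n (a ≫ F.map f ≫ φ n) hf' := by
  rw [cls, extMap_clZ F K hK L hL φ hφ a, cls]
  congr 1
  rw [Groth.Agent.Etcore.ExtMap.extMap_mk₀, Ext.mk₀_comp_mk₀]
  congr 1
  rw [← cancel_mono (L.iCycles n), L.liftCycles_i, Category.assoc, Category.assoc, zMap_i, ← F.map_comp_assoc,
    K.liftCycles_i]

end functor

end K855.Ladder
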