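import Groth.Agent.EtDual.K855.HomCmp
import Groth.Agent.Etcore.LimEt
import Groth.Agent.S0101

/-!
# The complex of an injective resolution on a big site and limits of schemes

`E : I ⥤ Over Y` a cofiltered diagram of quasi-compact quasi-separated schemes with affine transition morphisms, `c`
a limit cone.  The cohomology of `J(c.pt)` is the colimit of the cohomology of `J(E i)`.
-/

set_option autoImplicit false
universe u
open CategoryTheory CategoryTheory.Limits AlgebraicGeometry Opposite Abelian ComplexShape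
open scoped Groth.Agent.Etcore.EtInst

noncomputable section

namespace K855.LimCx

open Groth.Agent.Etrest Groth.Agent.Etrest.BigEtSite K343.Basic K343.Res
open Groth.Agent.Etcore.HpullCalc Groth.Agent.Etcore.EtInst Groth.Agent.Etcore.LimDeg0
open K855.NatCmp K855.HomCmp

attribute [local instance] isGrothendieckAbelian_AbK

/-- Left exactness of the inverse image. -/
theorem pullEx {X Z : Scheme.{u}} (f : X ⟶ Z) : PreservesFiniteLimits (EtCoh.pull f) := Groth.Agent.S0101.result f

attribute [local instance] pullEx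

variable {K : GrothendieckTopology Scheme.{u}} {Y : Scheme.{u}} [Good K] [ContK K Y] {F : EtCoh.Ab Y}
  (J : InjectiveResolution ((aPullK K Y).obj F))
  (hv : ∀ (V : Over Y) (q : ℕ), 0 < q → IsZero (((uResK K V.hom).rightDerived q).obj ((aPullK K Y).obj F)))
  {I : Type u} [SmallCategory I] [IsCofiltered I] (E : I ⥤ Over Y)
  (hE : ∀ {i j : I} (f : i ⟶ j), IsAffineHom (E.map f).left) (hE₁ : ∀ i, CompactSpace (E.obj i).left)
  (hE₂ : ∀ i, QuasiSeparatedSpace (E.obj i).left)
  (c : Cone E) (hc : IsLimit c)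

/-- The projections. -/
abbrev pp (i : I) : c.pt.left ⟶ (E ⋙ Over.forget Y).obj i := (c.π.app i).left

omit [IsCofiltered I] in
theorem pp_w {x y : I} (f : x ⟶ y) : pp E c x ≫ (E ⋙ Over.forget Y).map f = pp E c y :=
  congrArg (fun k => k.left) (c.w f)

include hc in
theorem nonempty_isLimit_coneOf : Nonempty (IsLimit (coneOf (pp E c) (pp_w E c))) := by
  have : IsConnected I := IsCofiltered.isConnected I
  exact ⟨isLimitOfPreserves (Over.forget Y) hc⟩

include hE hE₁ hE₂ hc hv in
theorem hsurj (n : ℤ) (ξ : ((evA c.pt).obj (psh J)).homology n) :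
    ∃ (j : I) (η : ((evA (E.obj j)).obj (psh J)).homology n),
      HomologicalComplex.homologyMap (evM (psh J) (c.π.app j)) n η = ξ := by
  by_cases hn : n < 0
  · obtain ⟨j⟩ := IsCofiltered.nonempty (C := I)
    refine ⟨j, 0, ?_⟩
    exact ((AddCommGrpCat.subsingleton_of_isZero (isZero_homology_neg J c.pt n hn)).elim _ _)
  · obtain ⟨n, rfl⟩ := Int.eq_ofNat_of_zero_le (not_lt.1 hn)
    obtain ⟨hl⟩ := nonempty_isLimit_coneOf E c hc
    have a1 : ∀ {i j : I} (f : i ⟶ j), IsAffineHom ((E ⋙ Over.forget Y).map f) := hE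
    have a2 : ∀ i, CompactSpace ((E ⋙ Over.forget Y).obj i) := hE₁
    have a3 : ∀ i, QuasiSeparatedSpace ((E ⋙ Over.forget Y).obj i) := hE₂
    obtain ⟨j, x, hx⟩ := Groth.Agent.Etcore.LimEt.exists_hpVia_eq (D := E ⋙ Over.forget Y)
      (pp E c) (pp_w E c) hl (X := Y)
      (fun i => (E.obj i).hom) (fun {x y} f => Over.w (E.map f)) (q := c.pt.hom) (fun i => Over.w (c.π.app i)) F n
      (hcmp J hv c.pt n ξ)
    refine ⟨j, (hcmp J hv (E.obj j) n).symm x, ?_⟩
    apply (hcmp J hv c.pt n).injective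
    have h0 : hcmp J hv (E.obj j) n ((hcmp J hv (E.obj j) n).symm x) = x := AddEquiv.apply_symm_apply _ _
    refine (hcmp_res J hv (V := E.obj j) (V' := c.pt) (c.π.app j) n _).symm.trans ?_
    exact (congrArg (hpVia (c.π.app j).left (E.obj j).hom c.pt.hom (Over.w (c.π.app j)) F n) h0).trans hx

include hE hE₁ hE₂ hc hv in
theorem hinj (j : I) (n : ℤ) (η : ((evA (E.obj j)).obj (psh J)).homology n)
    (hη : HomologicalComplex.homologyMap (evM (psh J) (c.π.app j)) n η = 0) :
    ∃ (k : I) (f : k ⟶ j), HomologicalComplex.homologyMap (evM (psh J) (E.map f)) n η = 0 := by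
  by_cases hn : n < 0
  · refine ⟨j, 𝟙 j, ?_⟩
    exact ((AddCommGrpCat.subsingleton_of_isZero (isZero_homology_neg J (E.obj j) n hn)).elim _ _)
  · obtain ⟨n, rfl⟩ := Int.eq_ofNat_of_zero_le (not_lt.1 hn)
    obtain ⟨hl⟩ := nonempty_isLimit_coneOf E c hc
    have a1 : ∀ {i j : I} (f : i ⟶ j), IsAffineHom ((E ⋙ Over.forget Y).map f) := hE
    have a2 : ∀ i, CompactSpace ((E ⋙ Over.forget Y).obj i) := hE₁
    have a3 : ∀ i, QuasiSeparatedSpace ((E ⋙ Over.forget Y).obj i) := hE₂
    have h1 : hpVia (c.π.app j).left (E.obj j).hom c.pt.hom (Over.w (c.π.app j)) F n (hcmp J hv (E.obj j) n η) = 0 := by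
      refine (hcmp_res J hv (V := E.obj j) (V' := c.pt) (c.π.app j) n η).trans ?_
      exact (congrArg (hcmp J hv c.pt n) hη).trans (map_zero _)
    obtain ⟨k, f, hf⟩ := Groth.Agent.Etcore.LimEt.exists_hp_eq_zero (D := E ⋙ Over.forget Y)
      (pp E c) (pp_w E c) hl (X := Y)
      (fun i => (E.obj i).hom) (fun {x y} f => Over.w (E.map f)) (q := c.pt.hom) (fun i => Over.w (c.π.app i)) F n
      j (hcmp J hv (E.obj j) n η) h1
    refine ⟨k, f, ?_⟩
    apply (hcmp J hv (E.obj k) n).injective
    rw [map_zero]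
    refine (hcmp_res J hv (E.map f) n η).symm.trans ?_
    rw [hpVia_apply]
    exact (congrArg _ hf).trans (map_zero _)

end K855.LimCx
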