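import Groth.Agent.EtDual.K855.SecMor
import Groth.Agent.EtDual.K855.Ladder
import Groth.Agent.Etrest.RAcyc

/-!
# Étale cohomology through an injective resolution on a big site: natural form

`K` a topology on schemes with `Good K`, `F` a small étale sheaf on `Y` with `R^q (-|_T) (a⁻¹ F) = 0` for `q > 0`, `I`
an injective resolution of `a⁻¹ F` on the big `K`-site of `Y`.
* `cl`: the class in `H^n(T, F|_T)` of a cocycle in `I^n(T)`; additive, surjective, the kernel is the group of
  coboundaries.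
* `cl_res`: compatibility with the pull-back maps `hpVia` in étale cohomology.
-/

set_option autoImplicit false
universe u
open CategoryTheory CategoryTheory.Limits AlgebraicGeometry Opposite Abelian
open scoped Groth.Agent.Etcore.EtInst

noncomputable section

namespace K855.NatCmp

open Groth.Agent.Etrest Groth.Agent.Etrest.BigEtSite Groth.Agent.Etrest.BigPush K343.Basic K343.Res
open Groth.Agent.Etcore.PullCoh Groth.Agent.Etcore.HpullCalc Groth.Agent.Etcore.EtInst
open K855.ResMap K855.SecMor K855.Ladder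

attribute [local instance] isGrothendieckAbelian_AbK

variable {K : GrothendieckTopology Scheme.{u}} [Good K] {Y T T' : Scheme.{u}}
  {G : AbK K Y} (I : InjectiveResolution G) (t : T ⟶ Y)

/-- The restriction of the resolution to the small étale site of `T`. -/
abbrev KT : CochainComplex (EtCoh.Ab T) ℕ := ((uResK K t).mapHomologicalComplex (ComplexShape.up ℕ)).obj I.cocomplex

instance inj_KT (q : ℕ) : Injective ((KT I t).X q) := injective_uResK K t (I.cocomplex.X q)

theorem exactAt_KT (hv : ∀ q : ℕ, 0 < q → IsZero (((uResK K t).rightDerived q).obj G)) (q : ℕ) :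
    (KT I t).ExactAt (q + 1) :=
  RAcyc.exactAt_of_isZero_rightDerived (uResK K t) I (q + 1) (hv (q + 1) q.succ_pos)

/-- `G|_T ⟶ I^0|_T`. -/
def aug : (uResK K t).obj G ⟶ (KT I t).X 0 := (uResK K t).map (I.ι.f 0)

theorem aug_d : aug I t ≫ (KT I t).d 0 (0 + 1) = 0 := by
  change (uResK K t).map (I.ι.f 0) ≫ (uResK K t).map (I.cocomplex.d 0 1) = 0
  rw [← Functor.map_comp]
  exact (congrArg (uResK K t).map I.ι_f_zero_comp_complex_d).trans (Functor.map_zero _ _ _)

/-- `G|_T ⟶ Z^0 (I|_T)`. -/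
def u0 : (uResK K t).obj G ⟶ (KT I t).cycles 0 := (KT I t).liftCycles (aug I t) (0 + 1) (by simp) (aug_d I t)

theorem u0_i : u0 I t ≫ (KT I t).iCycles 0 = aug I t := (KT I t).liftCycles_i _ _ _ _

instance isIso_u0 : IsIso (u0 I t) := by
  have hk : IsLimit (KernelFork.ofι (f := (KT I t).d 0 (0 + 1)) (aug I t) (aug_d I t)) :=
    KernelFork.mapIsLimit _ I.isLimitKernelFork (uResK K t)
  have hc := (KT I t).cyclesIsKernel 0 (0 + 1) (by simp)
  have h1 : u0 I t = (hk.conePointUniqueUpToIso hc).hom := by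
    rw [← cancel_mono ((KT I t).iCycles 0), u0_i]
    exact (hk.conePointUniqueUpToIso_hom_comp hc WalkingParallelPair.zero).symm
  rw [h1]
  infer_instance

/-! ### Restriction maps between the complexes -/

section res

variable {t} {t' : T' ⟶ Y} {g : T' ⟶ T} (w : g ≫ t = t')

/-- `g⁻¹ (I^q|_T) ⟶ I^q|_{T'}`. -/
def φm (q : ℕ) : (EtCoh.pull g).obj ((KT I t).X q) ⟶ (KT I t').X q := cm w ((toE K Y).obj (I.cocomplex.X q))

theorem φm_d (q : ℕ) : φm I w q ≫ (KT I t').d q (q + 1) =
    (EtCoh.pull g).map ((KT I t).d q (q + 1)) ≫ φm I w (q + 1) :=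
  (cm_nat w ((toE K Y).map (I.cocomplex.d q (q + 1)))).symm

theorem aug_φm : (EtCoh.pull g).map (aug I t) ≫ φm I w 0 = cm w ((toE K Y).obj G) ≫ aug I t' :=
  cm_nat w ((toE K Y).map (I.ι.f 0))

theorem u0_nat [PreservesFiniteLimits (EtCoh.pull g)] :
    (EtCoh.pull g).map (u0 I t) ≫ zMap (EtCoh.pull g) (KT I t) (KT I t') (φm I w) (φm_d I w) 0 =
      cm w ((toE K Y).obj G) ≫ u0 I t' := by
  rw [← cancel_mono ((KT I t').iCycles 0), Category.assoc, Category.assoc, u0_i, zMap_i, ← aug_φm, ← Category.assoc,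
    ← Functor.map_comp, u0_i]

end res

variable [ContK K Y] {F : EtCoh.Ab Y} (J : InjectiveResolution ((aPullK K Y).obj F))

/-- `F|_T ≅ Z^0 (J|_T)`. -/
def j0 : (EtCoh.pull t).obj F ⟶ (KT J t).cycles 0 := (pullIsoK K t).inv.app F ≫ u0 J t

instance isIso_j0 : IsIso (j0 t J) := by
  have h1 : IsIso ((pullIsoK K t).inv.app F) := inferInstance
  exact IsIso.comp_isIso' h1 (isIso_u0 J t)

theorem j0_nat {t : T ⟶ Y} {t' : T' ⟶ Y} {g : T' ⟶ T} (w : g ≫ t = t') [PreservesFiniteLimits (EtCoh.pull g)] :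
    (EtCoh.pull g).map (j0 t J) ≫ zMap (EtCoh.pull g) (KT J t) (KT J t') (φm J w) (φm_d J w) 0 =
      th g t t' w F ≫ j0 t' J := by
  have h1 := cm_pullIsoK w K F
  have h2 : (EtCoh.pull g).map ((pullIsoK K t).inv.app F) ≫ cm w ((toE K Y).obj ((aPullK K Y).obj F)) =
      th g t t' w F ≫ (pullIsoK K t').inv.app F := by
    rw [← cancel_mono ((pullIsoK K t').hom.app F), Category.assoc, Category.assoc, h1, Iso.inv_hom_id_app,
      ← Category.assoc, ← Functor.map_comp, Iso.inv_hom_id_app]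
    refine Eq.trans ?_ (Category.comp_id _).symm
    exact (congrArg (fun k => k ≫ th g t t' w F) ((EtCoh.pull g).map_id _)).trans (Category.id_comp _)
  rw [j0, Functor.map_comp, Category.assoc, u0_nat]
  refine (Category.assoc _ _ _).symm.trans ?_
  refine (congrArg (fun k => k ≫ u0 J t') h2).trans ?_
  exact Category.assoc _ _ _

/-! ### Cocycles -/

/-- The groups `J^n(T)`. -/
abbrev sc (n : ℕ) : AddCommGrpCat.{u + 1} := (J.cocomplex.X n).obj.obj (op (Over.mk t))

/-- The differential of `J(T)`. -/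
abbrev dc (n : ℕ) : sc t J n ⟶ sc t J (n + 1) := (J.cocomplex.d n (n + 1)).hom.app (op (Over.mk t))

/-- The morphism attached to a section. -/
def mor (n : ℕ) (z : sc t J n) : EtCoh.const T ℤ ⟶ (KT J t).X n := (sE t ((toE K Y).obj (J.cocomplex.X n))).symm z

theorem sE_mor (n : ℕ) (z : sc t J n) : sE t ((toE K Y).obj (J.cocomplex.X n)) (mor t J n z) = z :=
  (sE t ((toE K Y).obj (J.cocomplex.X n))).apply_symm_apply z

theorem mor_add (n : ℕ) (z z' : sc t J n) : mor t J n (z + z') = mor t J n z + mor t J n z' :=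
  map_add (sE t ((toE K Y).obj (J.cocomplex.X n))).symm z z'

theorem exists_mor (n : ℕ) (f : EtCoh.const T ℤ ⟶ (KT J t).X n) : ∃ z, mor t J n z = f :=
  ⟨sE t ((toE K Y).obj (J.cocomplex.X n)) f, (sE t ((toE K Y).obj (J.cocomplex.X n))).symm_apply_apply f⟩

theorem mor_injective (n : ℕ) : Function.Injective (mor t J n) :=
  (sE t ((toE K Y).obj (J.cocomplex.X n))).symm.injective

theorem mor_d (n : ℕ) (z : sc t J n) : mor t J n z ≫ (KT J t).d n (n + 1) = mor t J (n + 1) (dc t J n z) := by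
  apply (sE t ((toE K Y).obj (J.cocomplex.X (n + 1)))).injective
  rw [sE_mor]
  refine (sE_comp t (mor t J n z) ((toE K Y).map (J.cocomplex.d n (n + 1)))).trans ?_
  rw [sE_mor]
  rfl

theorem mor_d_zero (n : ℕ) (z : sc t J n) (hz : dc t J n z = 0) : mor t J n z ≫ (KT J t).d n (n + 1) = 0 := by
  rw [mor_d, hz]
  exact map_zero (sE t ((toE K Y).obj (J.cocomplex.X (n + 1)))).symm

section cl

variable (hv : ∀ q : ℕ, 0 < q → IsZero (((uResK K t).rightDerived q).obj ((aPullK K Y).obj F)))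

/-- The class of a cocycle. -/
def cl (n : ℕ) (z : sc t J n) (hz : dc t J n z = 0) : HH T ((EtCoh.pull t).obj F) n :=
  HHmap (inv (j0 t J)) n (cls (KT J t) (exactAt_KT J t hv) n (mor t J n z) (mor_d_zero t J n z hz))

theorem cl_congr (n : ℕ) {z z' : sc t J n} (h : z = z') (hz : dc t J n z = 0) (hz' : dc t J n z' = 0) :
    cl t J hv n z hz = cl t J hv n z' hz' := by
  subst h
  rfl

theorem cl_add (n : ℕ) (z z' : sc t J n) (hz : dc t J n z = 0) (hz' : dc t J n z' = 0)
    (hzz' : dc t J n (z + z') = 0) : cl t J hv n (z + z') hzz' = cl t J hv n z hz + cl t J hv n z' hz' := by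
  rw [cl, cl, cl, ← map_add]
  congr 1
  have h := cls_add (KT J t) (exactAt_KT J t hv) n (mor t J n z) (mor t J n z') (mor_d_zero t J n z hz)
    (mor_d_zero t J n z' hz') (by rw [← mor_add]; exact mor_d_zero t J n _ hzz')
  rw [← h]
  congr 1
  exact mor_add t J n z z'

theorem cl_surjective (n : ℕ) (ξ : HH T ((EtCoh.pull t).obj F) n) :
    ∃ (z : sc t J n) (hz : dc t J n z = 0), cl t J hv n z hz = ξ := by
  obtain ⟨x, rfl⟩ := (HHmap_bijective (inv (j0 t J)) n).2 ξ
  obtain ⟨f, hf, rfl⟩ := cls_surjective (KT J t) (exactAt_KT J t hv) n x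
  obtain ⟨z, rfl⟩ := exists_mor t J n f
  refine ⟨z, ?_, rfl⟩
  rw [mor_d] at hf
  apply mor_injective t J (n + 1)
  rw [hf]
  exact (map_zero (sE t ((toE K Y).obj (J.cocomplex.X (n + 1)))).symm).symm

theorem cl_eq_zero_iff_succ (n : ℕ) (z : sc t J (n + 1)) (hz : dc t J (n + 1) z = 0) :
    cl t J hv (n + 1) z hz = 0 ↔ ∃ y : sc t J n, dc t J n y = z := by
  rw [cl, (injective_iff_map_eq_zero' _).1 (HHmap_bijective (inv (j0 t J)) (n + 1)).1, cls_eq_zero_iff_succ]
  constructor
  · rintro ⟨f, hf⟩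
    obtain ⟨y, rfl⟩ := exists_mor t J n f
    rw [mor_d] at hf
    exact ⟨y, mor_injective t J (n + 1) hf⟩
  · rintro ⟨y, hy⟩
    exact ⟨mor t J n y, by rw [mor_d, hy]⟩

theorem cl_eq_zero_iff_zero (z : sc t J 0) (hz : dc t J 0 z = 0) : cl t J hv 0 z hz = 0 ↔ z = 0 := by
  rw [cl, (injective_iff_map_eq_zero' _).1 (HHmap_bijective (inv (j0 t J)) 0).1, cls_zero_eq_zero_iff]
  constructor
  · intro h
    apply mor_injective t J 0
    rw [h]
    exact (map_zero (sE t ((toE K Y).obj (J.cocomplex.X 0))).symm).symm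
  · rintro rfl
    exact map_zero (sE t ((toE K Y).obj (J.cocomplex.X 0))).symm

/-! ### Naturality -/

variable {t} {t' : T' ⟶ Y} {g : T' ⟶ T} (w : g ≫ t = t')

/-- Restriction of sections. -/
abbrev rc (n : ℕ) : sc t J n ⟶ sc t' J n := (J.cocomplex.X n).obj.map (Over.homMk g w : Over.mk t' ⟶ Over.mk t).op

omit [Good K] in
theorem rc_dc (n : ℕ) (z : sc t J n) : dc t' J n (rc J w n z) = rc J w (n + 1) (dc t J n z) :=
  ConcreteCategory.congr_hom ((J.cocomplex.d n (n + 1)).hom.naturality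
    (Over.homMk g w : Over.mk t' ⟶ Over.mk t).op) z

theorem rc_dc_zero (n : ℕ) (z : sc t J n) (hz : dc t J n z = 0) : dc t' J n (rc J w n z) = 0 := by
  rw [rc_dc, hz, map_zero]

theorem mor_rc (n : ℕ) (z : sc t J n) :
    (EtCore.pullConst g ℤ).inv ≫ (EtCoh.pull g).map (mor t J n z) ≫ φm J w n = mor t' J n (rc J w n z) := by
  apply (sE t' ((toE K Y).obj (J.cocomplex.X n))).injective
  rw [sE_mor]
  have h := sE_pull w ((toE K Y).obj (J.cocomplex.X n)) (mor t J n z)
  rw [sE_mor, Category.assoc] at h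
  exact h

/-- **Naturality of the comparison.** -/
theorem cl_res [PreservesFiniteLimits (EtCoh.pull g)]
    (hv' : ∀ q : ℕ, 0 < q → IsZero (((uResK K t').rightDerived q).obj ((aPullK K Y).obj F)))
    (n : ℕ) (z : sc t J n) (hz : dc t J n z = 0) :
    hpVia g t t' w F n (cl t J hv n z hz) = cl t' J hv' n (rc J w n z) (rc_dc_zero J w n z hz) := by
  have h1 : hpVia g t t' w F n (cl t J hv n z hz) = HHmap (th g t t' w F) n (hp g _ n (cl t J hv n z hz)) :=
    hpVia_apply g t t' w F n _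
  rw [h1, cl, hp_map, ← HHmap_comp]
  have h2 : (EtCoh.pull g).map (inv (j0 t J)) ≫ th g t t' w F =
      zMap (EtCoh.pull g) (KT J t) (KT J t') (φm J w) (φm_d J w) 0 ≫ inv (j0 t' J) := by
    rw [← cancel_epi ((EtCoh.pull g).map (j0 t J)), ← Category.assoc, ← Functor.map_comp, IsIso.hom_inv_id,
      ← Category.assoc, j0_nat, Category.assoc, IsIso.hom_inv_id, Category.comp_id]
    exact (congrArg (fun k => k ≫ th g t t' w F) ((EtCoh.pull g).map_id _)).trans (Category.id_comp _)
  rw [h2, HHmap_comp, cl]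
  congr 1
  have h3 : ((EtCore.pullConst g ℤ).inv ≫ (EtCoh.pull g).map (mor t J n z) ≫ φm J w n) ≫ (KT J t').d n (n + 1) = 0 := by
    rw [mor_rc]
    exact mor_d_zero t' J n _ (rc_dc_zero J w n z hz)
  have h4 := extMap_cls (EtCoh.pull g) (KT J t) (exactAt_KT J t hv) (KT J t') (exactAt_KT J t' hv') (φm J w)
    (φm_d J w) (EtCore.pullConst g ℤ).inv n (mor t J n z) (mor_d_zero t J n z hz) h3
  refine Eq.trans ?_ (h4.trans ?_)
  · rfl
  · congr 1
    exact mor_rc J w n z

end cl

end K855.NatCmp
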