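import Groth.Agent.HTop.K343.Res
import Groth.Agent.Etcore.HpullCalc
import Groth.Agent.Etcore.PullCoh

/-!
# Restriction maps between small étale sites of schemes over `Y`

`t : T ⟶ Y`, `t' : T' ⟶ Y`, `g : T' ⟶ T` with `g ≫ t = t'`, `H` a sheaf on the big étale site of `Y`.
* `cm w H : g⁻¹ (H|_T) ⟶ H|_{T'}`.
* `cm_aPull`: for `H = a⁻¹ F` it is the canonical isomorphism `g⁻¹ t⁻¹ F ≅ t'⁻¹ F`.
-/

set_option autoImplicit false
universe u
open CategoryTheory CategoryTheory.Limits AlgebraicGeometry Opposite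

noncomputable section

namespace K855.ResMap

open Groth.Agent.Etrest Groth.Agent.Etrest.BigEtSite Groth.Agent.Etrest.BigPush K343.Basic
open Groth.Agent.Etcore.PullCoh

variable {Y T T' : Scheme.{u}} {t : T ⟶ Y} {t' : T' ⟶ Y} {g : T' ⟶ T} (w : g ≫ t = t')

/-- `(W ×_T T' → T' → Y) ⟶ (W → T → Y)`. -/
def subNat : EtCoh.bc g ⋙ uf t' ⟶ uf t where
  app W := Over.homMk (pullback.fst W.hom g : ((EtCoh.bc g).obj W).left ⟶ W.left) (by
    change pullback.fst W.hom g ≫ (W.hom ≫ t) = pullback.snd W.hom g ≫ t'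
    rw [← w, pullback.condition_assoc])
  naturality W W' h := by
    ext
    exact (EtCoh.isPullback_bc_map g h).w

/-- `H|_T ⟶ g_* (H|_{T'})`. -/
def resE : uRes t ⟶ uRes t' ⋙ EtCoh.push g where
  app H := ⟨Functor.whiskerRight (NatTrans.op (subNat w)) H.obj⟩
  naturality H H' φ := by
    apply (sheafToPresheaf _ _).map_injective
    exact ((Functor.whiskeringLeft _ _ AddCommGrpCat.{u + 1}).map (NatTrans.op (subNat w))).naturality φ.hom

theorem resE_app (H : AbE Y) (W : T.Etale) (s : EtCoh.sect ((uRes t).obj H) W) :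
    ((resE w).app H).hom.app (op W) s = H.obj.map ((subNat w).app W).op s := rfl

/-- `g⁻¹ (H|_T) ⟶ H|_{T'}`. -/
def cm (H : AbE Y) : (EtCoh.pull g).obj ((uRes t).obj H) ⟶ (uRes t').obj H :=
  ((EtCoh.pullPushAdj g).homEquiv _ _).symm ((resE w).app H)

theorem cm_eta (H : AbE Y) (W : T.Etale) (s : EtCoh.sect ((uRes t).obj H) W) :
    (cm w H).hom.app _ (eta g ((uRes t).obj H) W s) = H.obj.map ((subNat w).app W).op s := by
  have h := ((EtCoh.pullPushAdj g).homEquiv ((uRes t).obj H) ((uRes t').obj H)).apply_symm_apply ((resE w).app H)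
  rw [Adjunction.homEquiv_unit] at h
  exact (congrArg (fun k => k.hom.app (op W) s) h).trans (resE_app w H W s)

theorem cm_nat {H H' : AbE Y} (φ : H ⟶ H') :
    (EtCoh.pull g).map ((uRes t).map φ) ≫ cm w H' = cm w H ≫ (uRes t').map φ := by
  refine pull_hom_ext g _ _ fun W s => ?_
  rw [map_comp_app, map_comp_app, eta_map, cm_eta, cm_eta]
  exact ConcreteCategory.congr_hom (φ.hom.naturality ((subNat w).app W).op).symm s

/-- The unit section of `a⁻¹ F`. -/
abbrev un (F : EtCoh.Ab Y) (U : Y.Etale) (s : EtCoh.sect F U) :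
    ((aPullE Y).obj F).obj.obj (op ((EtFppf.a Y).obj U)) := ((aAdjE Y).unit.app F).hom.app (op U) s

theorem pullIso_eta (t : T ⟶ Y) (F : EtCoh.Ab Y) (U : Y.Etale) (s : EtCoh.sect F U) :
    ((pullIso t).hom.app F).hom.app _ (eta t F U s) = ((aPullE Y).obj F).obj.map ((projNat t).app U).op (un F U s) :=
  congrArg (fun k => k.hom.app (op U) s) (unit_pullIso t F)

theorem subNat_projNat (U : Y.Etale) :
    (subNat w).app ((EtCoh.bc t).obj U) ≫ (projNat t).app U = (uf t').map (bcComp g t t' w U) ≫ (projNat t').app U := by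
  ext
  exact (bcComp_left_fst g t t' w U).symm

/-- On `a⁻¹ F` the map is the canonical isomorphism. -/
theorem pullIso_cm (F : EtCoh.Ab Y) :
    (EtCoh.pull g).map ((pullIso t).hom.app F) ≫ cm w ((aPullE Y).obj F) =
      th g t t' w F ≫ (pullIso t').hom.app F := by
  refine pull_hom_ext₂ g t _ _ fun U s => ?_
  rw [map_comp_app, map_comp_app, eta_map, pullIso_eta, th_unit]
  refine (cm_eta w ((aPullE Y).obj F) _ _).trans ?_
  refine Eq.trans ?_ (map_res ((pullIso t').hom.app F) (bcComp g t t' w U) (eta t' F U s)).symm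
  rw [pullIso_eta]
  have h := congrArg (fun k => ((aPullE Y).obj F).obj.map k.op (un F U s)) (subNat_projNat w U)
  refine Eq.trans ?_ (h.trans ?_)
  · exact (ConcreteCategory.congr_hom (((aPullE Y).obj F).obj.map_comp ((projNat t).app U).op
      ((subNat w).app ((EtCoh.bc t).obj U)).op) (un F U s)).symm
  · exact ConcreteCategory.congr_hom (((aPullE Y).obj F).obj.map_comp ((projNat t').app U).op
      ((uf t').map (bcComp g t t' w U)).op) (un F U s)

section K

variable (K : GrothendieckTopology Scheme.{u}) [Good K] [ContK K Y]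

/-- The same for `K`-sheaves. -/
theorem cm_pullIsoK (F : EtCoh.Ab Y) :
    cm w ((toE K Y).obj ((aPullK K Y).obj F)) ≫ (pullIsoK K t').hom.app F =
      (EtCoh.pull g).map ((pullIsoK K t).hom.app F) ≫ th g t t' w F := by
  have h1 : (pullIsoK K t').hom.app F = (uRes t').map ((aPullIsoE K Y).hom.app F) ≫ (pullIso t').inv.app F := by
    refine (Category.id_comp _).trans ?_
    rfl
  have h2 : (pullIsoK K t).hom.app F = (uRes t).map ((aPullIsoE K Y).hom.app F) ≫ (pullIso t).inv.app F := by
    refine (Category.id_comp _).trans ?_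
    rfl
  have h3 : (EtCoh.pull g).map ((uRes t).map ((aPullIsoE K Y).hom.app F)) ≫ cm w ((aPullE Y).obj F) =
      cm w ((toE K Y).obj ((aPullK K Y).obj F)) ≫ (uRes t').map ((aPullIsoE K Y).hom.app F) :=
    cm_nat w ((aPullIsoE K Y).hom.app F)
  have h4 := pullIso_cm w F
  have h5 : cm w ((aPullE Y).obj F) ≫ (pullIso t').inv.app F =
      (EtCoh.pull g).map ((pullIso t).inv.app F) ≫ th g t t' w F := by
    rw [← cancel_mono ((pullIso t').hom.app F), Category.assoc, Category.assoc, Iso.inv_hom_id_app]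
    refine (Category.comp_id _).trans ?_
    rw [← h4, ← Category.assoc, ← Functor.map_comp, Iso.inv_hom_id_app]
    refine Eq.trans ?_ (congrArg (fun k => k ≫ cm w ((aPullE Y).obj F)) ((EtCoh.pull g).map_id _).symm)
    exact (Category.id_comp _).symm
  rw [h1, h2]
  refine (Category.assoc _ _ _).symm.trans ?_
  refine (congrArg (fun k => k ≫ (pullIso t').inv.app F) h3.symm).trans ?_
  refine (Category.assoc _ _ _).trans ?_
  refine (congrArg (fun k => (EtCoh.pull g).map ((uRes t).map ((aPullIsoE K Y).hom.app F)) ≫ k) h5).trans ?_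
  refine (Category.assoc _ _ _).symm.trans ?_
  exact congrArg (fun k => k ≫ th g t t' w F) ((EtCoh.pull g).map_comp _ _).symm

end K

end K855.ResMap
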