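import Groth.Agent.EtDual.K855.ResMap

/-!
# Sections of a sheaf on the big étale site as morphisms on small étale sites

`sE t H : (ℤ_T ⟶ H|_T) ≃+ H(T)` for `t : T ⟶ Y` and a sheaf `H` on the big étale site of `Y`; naturality in `H`
and in `T`.
-/

set_option autoImplicit false
universe u
open CategoryTheory CategoryTheory.Limits AlgebraicGeometry Opposite

noncomputable section

namespace K855.SecMor

open Groth.Agent.Etrest Groth.Agent.Etrest.BigEtSite Groth.Agent.Etrest.BigPush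
open Groth.Agent.Etcore.PullCoh Groth.Agent.Etcore.HpullCalc K855.ResMap

/-- Morphisms `ℤ ⟶ G` are the global sections. -/
def sec0 {X : Scheme.{u}} (G : EtCoh.Ab X) : (EtCoh.const X ℤ ⟶ G) ≃+ EtCoh.sect G (EtCoh.top X) :=
  ((EtCore.constAdj X).homAddEquiv _ G).trans (AddCommGrpCat.uliftZMultiplesAddEquiv _)

theorem sec0_apply {X : Scheme.{u}} (G : EtCoh.Ab X) (g : EtCoh.const X ℤ ⟶ G) :
    sec0 G g = ((EtCore.constAdj X).homEquiv _ _ g).hom (ULift.up 1) := rfl

theorem sec0_comp {X : Scheme.{u}} {G G' : EtCoh.Ab X} (g : EtCoh.const X ℤ ⟶ G) (φ : G ⟶ G') :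
    sec0 G' (g ≫ φ) = φ.hom.app (op (EtCoh.top X)) (sec0 G g) := by
  rw [sec0_apply, sec0_apply, Adjunction.homEquiv_naturality_right]
  rfl

theorem sec0_pull {X Y : Scheme.{u}} (f : X ⟶ Y) (G : EtCoh.Ab Y) (g : EtCoh.const Y ℤ ⟶ G) :
    sec0 ((EtCoh.pull f).obj G) ((EtCore.pullConst f ℤ).inv ≫ (EtCoh.pull f).map g) =
      ((EtCoh.pull f).obj G).obj.map (EtCore.bcTopIso f).inv.op (eta f G _ (sec0 G g)) := by
  have h := constAdj_homEquiv_pullConstIso_inv f (AddCommGrpCat.of (ULift.{u+1} ℤ)) g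
  exact congrArg (fun t => t.hom (ULift.up (1 : ℤ))) h

variable {Y T T' : Scheme.{u}}

/-- Morphisms `ℤ ⟶ H|_T` are the sections over `T`. -/
def sE (t : T ⟶ Y) (H : AbE Y) : (EtCoh.const T ℤ ⟶ (uRes t).obj H) ≃+ H.obj.obj (op (Over.mk t)) :=
  (sec0 ((uRes t).obj H)).trans (H.obj.mapIso (ufTop t).symm.op).addCommGroupIsoToAddEquiv

theorem sE_apply (t : T ⟶ Y) (H : AbE Y) (g : EtCoh.const T ℤ ⟶ (uRes t).obj H) :
    sE t H g = H.obj.map (ufTop t).inv.op (sec0 ((uRes t).obj H) g) := rfl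

theorem sE_comp (t : T ⟶ Y) {H H' : AbE Y} (g : EtCoh.const T ℤ ⟶ (uRes t).obj H) (φ : H ⟶ H') :
    sE t H' (g ≫ (uRes t).map φ) = φ.hom.app _ (sE t H g) := by
  rw [sE_apply, sE_apply, sec0_comp]
  exact (ConcreteCategory.congr_hom (φ.hom.naturality (ufTop t).inv.op) (sec0 ((uRes t).obj H) g)).symm

variable {t : T ⟶ Y} {t' : T' ⟶ Y} {g : T' ⟶ T} (w : g ≫ t = t')

theorem sE_pull_aux : (ufTop t').inv ≫ (uf t').map (EtCore.bcTopIso g).inv ≫ (subNat w).app (EtCoh.top T) =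
    Over.homMk g w ≫ (ufTop t).inv := by
  ext
  have h1 : ((EtCore.bcTopIso g).inv).left ≫ (pullback.snd (EtCoh.top T).hom g :
      ((EtCoh.bc g).obj (EtCoh.top T)).left ⟶ T') = (EtCoh.top T').hom :=
    MorphismProperty.Over.w (EtCore.bcTopIso g).inv
  have h2 : (pullback.fst (EtCoh.top T).hom g : ((EtCoh.bc g).obj (EtCoh.top T)).left ⟶ T) ≫ (EtCoh.top T).hom =
      pullback.snd (EtCoh.top T).hom g ≫ g := pullback.condition
  have h3 : ((EtCore.bcTopIso g).inv).left ≫ (pullback.fst (EtCoh.top T).hom g :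
      ((EtCoh.bc g).obj (EtCoh.top T)).left ⟶ T) = g := by
    have h4 : (pullback.fst (EtCoh.top T).hom g : ((EtCoh.bc g).obj (EtCoh.top T)).left ⟶ T) =
      pullback.snd (EtCoh.top T).hom g ≫ g := (Category.comp_id _).symm.trans h2
    rw [h4]
    refine (Category.assoc _ _ _).symm.trans ?_
    rw [h1]
    exact Category.id_comp g
  exact (Category.id_comp _).trans (h3.trans (Category.comp_id g).symm)

theorem sE_pull (H : AbE Y) (x : EtCoh.const T ℤ ⟶ (uRes t).obj H) :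
    sE t' H (((EtCore.pullConst g ℤ).inv ≫ (EtCoh.pull g).map x) ≫ cm w H) =
      H.obj.map (Over.homMk g w : Over.mk t' ⟶ Over.mk t).op (sE t H x) := by
  rw [sE_apply, sec0_comp, sec0_pull, map_res, cm_eta, sE_apply]
  have h := congrArg (fun k => H.obj.map k.op (sec0 ((uRes t).obj H) x)) (sE_pull_aux w)
  refine Eq.trans ?_ (h.trans ?_)
  · refine Eq.trans ?_ (ConcreteCategory.congr_hom (H.obj.map_comp
      (((uf t').map (EtCore.bcTopIso g).inv ≫ (subNat w).app (EtCoh.top T))).op (ufTop t').inv.op)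
      (sec0 ((uRes t).obj H) x)).symm
    refine congrArg (fun y => H.obj.map (ufTop t').inv.op y) ?_
    exact (ConcreteCategory.congr_hom (H.obj.map_comp ((subNat w).app (EtCoh.top T)).op
      ((uf t').map (EtCore.bcTopIso g).inv).op) (sec0 ((uRes t).obj H) x)).symm
  · exact ConcreteCategory.congr_hom (H.obj.map_comp (ufTop t).inv.op
      (Over.homMk g w : Over.mk t' ⟶ Over.mk t).op) (sec0 ((uRes t).obj H) x)

end K855.SecMor
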